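import Cfsg.Agent.H769.PB.Real_m3
import Cfsg.Agent.H843.IMC.Frame3_m3
import Cfsg.Agent.H394.PBTools_m3
import Cfsg.Agent.H843.IMC.RowsA
import Cfsg.Agent.H843.IMC.Co3A
import Cfsg.Agent.H729.PairEleven
import Cfsg.Agent.H740.K4.Equiv_m3
import Cfsg.Agent.Prune
set_option linter.all false

section
prune_inst 0x7f00000000000000000000000000000000000000000000000000000000000000000000000000000000000000000000000000000000000000000000000000000000000000000000000000000000000000003fffffffffffffffffffffffffffbeffbdfbfeffff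

-- part: H769/PB/RowCoTwo
section
prune_inst 0x4010000
set_option linter.all false
open scoped Cfsg.Agent.FastGrp

-- part: H769/PB/Lam23
section
/-!
# `Co2`: the fourth exterior power of the 23-dimensional representation (helper769, for S4826)

The quotient of the 24-dimensional representation by the fixed vector `e_∞ + e_0` has the matrices `bm`; the fourth
exterior power is a real character of degree `8855`, whose constituents have degrees divisible by `7` (an element of
order 7 of `M22` moves all sets of four points modulo the Golay code): the principal 2-block of `Co2` has a character of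
degree divisible by `7`.
-/

set_option autoImplicit false
set_option maxRecDepth 10000

namespace Cfsg.Agent.H769.PB.Lam23

open Cfsg Cfsg.Spor Cfsg.Agent.H843.IMC Cfsg.Agent.H843.IMC.Syn Cfsg.Agent.H843.IMC.Lam Cfsg.Agent.H843.IMC.LamCo1
open Cfsg.Agent.SporadicA.GolayBase Cfsg.Agent.SporadicA.GolayPerm Cfsg.Agent.SporadicStructure.M24El
open Cfsg.Agent.SporadicA.Co0Mono Cfsg.Agent.H419.LeechIrr
open Cfsg.Agent.SporadicStructure.Co0Base (e8 e8_coe)
open Cfsg.Agent.Characters.Core Cfsg.Agent.H133.PB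
open scoped ComplexConjugate

/-- The points different from `∞`. -/
abbrev I : Type := {i : GolayPt // i ≠ none}

/-- The matrix on the quotient. -/
noncomputable def bm (g : Co0) : Matrix I I ℂ := fun i j =>
  matC g i.1 j.1 - if i.1 = some 0 then matC g none j.1 else 0

theorem matC_apply (g : Co0) (j i : GolayPt) :
    matC g j i = ((((g • e8 i : leechLattice) : GolayPt → ℤ) j : ℤ) : ℂ) / 8 := by
  rw [matC, Matrix.map_apply, Cfsg.Agent.SigZeroCo2.Lin.mat]
  simp only [_root_.map_div₀, _root_.map_intCast, _root_.eq_ratCast, _root_.Rat.cast_ofNat]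

theorem two_U : Spor.leechU + Spor.leechU = e8 none + e8 (some 0) := by
  apply Subtype.ext
  funext i
  show Spor.vecU i + Spor.vecU i = ((e8 none : leechLattice) : GolayPt → ℤ) i + ((e8 (some 0) : leechLattice) : GolayPt → ℤ) i
  rw [e8_coe, e8_coe]
  by_cases h1 : i = none
  · subst h1; simp [Spor.vecU]
  · by_cases h2 : i = some 0
    · subst h2; simp [Spor.vecU]
    · simp [Spor.vecU, h1, h2]

theorem fix_sum {g : Co0} (hg : g • Spor.leechU = Spor.leechU) (a : GolayPt) :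
    matC g a none + matC g a (some 0) = (if a = none then 1 else 0) + if a = some 0 then 1 else 0 := by
  have h1 : g • e8 none + g • e8 (some 0) = e8 none + e8 (some 0) := by
    rw [← smul_add, ← two_U, smul_add, hg]
  have h2 := congrArg (fun v : leechLattice => (v : GolayPt → ℤ) a) h1
  have h3 : ((g • e8 none : leechLattice) : GolayPt → ℤ) a + ((g • e8 (some 0) : leechLattice) : GolayPt → ℤ) a =
      (if a = none then 8 else 0) + if a = some 0 then 8 else 0 := by
    have h4 : ((g • e8 none : leechLattice) : GolayPt → ℤ) a + ((g • e8 (some 0) : leechLattice) : GolayPt → ℤ) a =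
      ((e8 none : leechLattice) : GolayPt → ℤ) a + ((e8 (some 0) : leechLattice) : GolayPt → ℤ) a := h2
    rw [h4, e8_coe, e8_coe, Pi.single_apply, Pi.single_apply]
  rw [matC_apply, matC_apply, ← add_div]
  have h5 : (((((g • e8 none : leechLattice) : GolayPt → ℤ) a : ℤ) : ℂ) +
      ((((g • e8 (some 0) : leechLattice) : GolayPt → ℤ) a : ℤ) : ℂ)) =
      (((if a = none then 8 else 0) + if a = some 0 then 8 else 0 : ℤ) : ℂ) := by
    rw [← h3]; push_cast; ring
  rw [h5]
  split_ifs <;> norm_num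

theorem bm_mul {g h : Co0} (hg : g • Spor.leechU = Spor.leechU) : bm (g * h) = bm g * bm h := by
  classical
  ext i j
  rw [Matrix.mul_apply]
  have hR : ∀ j' : GolayPt, (matC (g * h) i.1 j' - if i.1 = some 0 then matC (g * h) none j' else 0) =
      ∑ k : GolayPt, (matC g i.1 k - if i.1 = some 0 then matC g none k else 0) * matC h k j' := by
    intro j'
    rw [matC_mul, Matrix.mul_apply, Matrix.mul_apply]
    by_cases h0 : i.1 = some 0
    · simp only [if_pos h0]
      rw [← Finset.sum_sub_distrib]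
      exact Finset.sum_congr rfl fun k _ => by ring
    · simp only [if_neg h0, sub_zero]
  have hz : (matC g i.1 none - if i.1 = some 0 then matC g none none else 0) +
      (matC g i.1 (some 0) - if i.1 = some 0 then matC g none (some 0) else 0) = 0 := by
    have h1 := fix_sum hg i.1
    have h2 := fix_sum hg none
    rw [if_neg i.2] at h1
    rw [if_pos rfl, if_neg (by simp)] at h2
    by_cases h0 : i.1 = some 0
    · rw [if_pos h0] at h1
      rw [if_pos h0, if_pos h0]
      linear_combination h1 - h2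
    · rw [if_neg h0] at h1
      rw [if_neg h0, if_neg h0]
      linear_combination h1
  show (matC (g * h) i.1 j.1 - if i.1 = some 0 then matC (g * h) none j.1 else 0) = _
  rw [hR, Fintype.sum_eq_add_sum_subtype_ne _ none]
  have h3 : ∑ k : I, bm g i k * bm h k j =
      ∑ k : I, ((matC g i.1 k.1 - if i.1 = some 0 then matC g none k.1 else 0) * matC h k.1 j.1) -
        (matC g i.1 (some 0) - if i.1 = some 0 then matC g none (some 0) else 0) * matC h none j.1 := by
    have h4 : ∀ k : I, bm g i k * bm h k j =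
        (matC g i.1 k.1 - if i.1 = some 0 then matC g none k.1 else 0) * matC h k.1 j.1 -
        (if k = (⟨some 0, by simp⟩ : I) then
          (matC g i.1 (some 0) - if i.1 = some 0 then matC g none (some 0) else 0) * matC h none j.1 else 0) := by
      intro k
      show (matC g i.1 k.1 - if i.1 = some 0 then matC g none k.1 else 0) *
        (matC h k.1 j.1 - if k.1 = some 0 then matC h none j.1 else 0) = _
      by_cases hk : k = (⟨some 0, by simp⟩ : I)
      · rw [hk, if_pos rfl, if_pos rfl]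
        ring
      · have hk' : k.1 ≠ some 0 := fun h5 => hk (Subtype.ext h5)
        rw [if_neg hk, if_neg hk', sub_zero, sub_zero]
    rw [Finset.sum_congr rfl fun k _ => h4 k, Finset.sum_sub_distrib, Finset.sum_ite_eq' Finset.univ,
      if_pos (Finset.mem_univ _)]
  rw [h3]
  linear_combination (matC h none j.1) * hz

theorem bm_one : bm 1 = 1 := by
  ext i j
  show (matC 1 i.1 j.1 - if i.1 = some 0 then matC 1 none j.1 else 0) = _
  rw [matC_one, Matrix.one_apply, Matrix.one_apply_ne (Ne.symm j.2), ite_self, sub_zero, Matrix.one_apply]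
  by_cases h : i = j
  · rw [if_pos h, if_pos (congrArg Subtype.val h)]
  · rw [if_neg h, if_neg (fun h' => h (Subtype.ext h'))]

/-- The representation. -/
noncomputable def bH : Spor.Co2 →* Matrix I I ℂ where
  toFun g := bm (LamCo2.inc g)
  map_one' := by rw [map_one, bm_one]
  map_mul' g h := by
    have hg : LamCo2.inc g • Spor.leechU = Spor.leechU := g.2.2
    rw [map_mul]
    exact bm_mul hg

theorem bm_real (g : Co0) (i j : I) : conj (bm g i j) = bm g i j := by
  show conj (matC g i.1 j.1 - if i.1 = some 0 then matC g none j.1 else 0) = _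
  have h : ∀ a b, conj (matC g a b) = matC g a b := by
    intro a b
    rw [matC_apply, map_div₀, map_intCast, map_ofNat]
  rw [map_sub, h]
  congr 1
  split_ifs
  · exact h _ _
  · exact map_zero _

/-- The character of the fourth exterior power. -/
noncomputable def W (g : Spor.Co2) : ℂ := altk 4 (bH g)

theorem isCharacter_W : IsCharacter Spor.Co2 W := isCharacter_altk 4 bH

theorem altk_real {J : Type*} [Fintype J] [DecidableEq J] (k : ℕ) (A : Matrix J J ℂ)
    (h : ∀ i j, conj (A i j) = A i j) : conj (altk k A) = altk k A := by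
  rw [altk_eq, map_mul, map_inv₀, Complex.conj_natCast, map_sum]
  congr 1
  refine Finset.sum_congr rfl fun i _ => ?_
  rw [map_sum]
  refine Finset.sum_congr rfl fun σ _ => ?_
  rw [map_mul, map_intCast, map_prod]
  congr 1
  exact Finset.prod_congr rfl fun t _ => h _ _

theorem altk_one {J : Type*} [Fintype J] [DecidableEq J] (k : ℕ) :
    altk k (1 : Matrix J J ℂ) = ((k.factorial : ℂ))⁻¹ * ((Fintype.card J).descFactorial k : ℕ) := by
  classical
  rw [← Matrix.diagonal_one, altk_diagonal]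
  congr 1
  simp only [Finset.prod_const_one, mul_one]
  rw [Finset.sum_boole]
  congr 1
  have h3 : Fintype.card (Fin k ↪ J) = (Fintype.card J).descFactorial k := by
    rw [Fintype.card_embedding_eq, Fintype.card_fin]
  rw [← h3, ← Fintype.card_subtype]
  exact Fintype.card_congr (Equiv.subtypeInjectiveEquivEmbedding (Fin k) J)

theorem W_real (g : Spor.Co2) : conj (W g) = W g := altk_real 4 (bH g) (bm_real _)

theorem bH_sg (e : Multiplicative LamCo2.C2) : bH (LamCo2.sg e) =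
    Matrix.diagonal fun i : I => sgnC (((e.toAdd : golayCode) : GolayPt → ZMod 2) i.1) := by
  ext i j
  show (matC (signCo0 (e.toAdd : golayCode)) i.1 j.1 -
    if i.1 = some 0 then matC (signCo0 (e.toAdd : golayCode)) none j.1 else 0) = _
  rw [matC_sign]
  rw [Matrix.diagonal_apply_ne _ (Ne.symm j.2), ite_self, sub_zero]
  by_cases h : i = j
  · subst h
    rw [Matrix.diagonal_apply_eq, Matrix.diagonal_apply_eq]
  · rw [Matrix.diagonal_apply_ne _ h, Matrix.diagonal_apply_ne _ (fun h' => h (Subtype.ext h'))]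

theorem card_I : Fintype.card I = 23 := by
  have h5 : Fintype.card GolayPt = 24 := by decide
  rw [Fintype.card_subtype_compl, h5, Fintype.card_subtype_eq]

theorem W_one : W 1 = (8855 : ℕ) := by
  unfold W
  rw [map_one, altk_one, card_I]
  norm_num [Nat.factorial, Nat.descFactorial]

theorem dvd7 [Fintype Spor.Co2] (ψ : IrrCharacter Spor.Co2) (hψ : classInner W (ψ : Spor.Co2 → ℂ) ≠ 0) :
    7 ∣ charDegree (ψ : Spor.Co2 → ℂ) := by
  classical
  have := Fintype.ofFinite (Multiplicative LamCo2.C2)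
  have : Fact (Nat.Prime 7) := ⟨by norm_num⟩
  have hfix := LamCo2.fixQ7
  rw [Bool.and_eq_true] at hfix
  have hP := LamCo2.okQ7
  have h1 : el LamCo2.Q7 • (none : GolayPt) = none := by
    apply idx_injective
    rw [idx_el_smul hP]
    exact Nat.eq_of_beq_eq_true hfix.1
  have h2 : el LamCo2.Q7 • (some 0 : GolayPt) = some 0 := by
    apply idx_injective
    rw [idx_el_smul hP]
    exact Nat.eq_of_beq_eq_true hfix.2
  have hPp : el LamCo2.Q7 ^ 7 = 1 := el_pow_eq_one hP LamCo2.powQ7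
  have hσ : ∀ (e : Multiplicative LamCo2.C2) (i : GolayPt), (LamCo2.wd (LamCo2.wp (el LamCo2.Q7) h1 h2 e)).toAdd
      (el LamCo2.Q7 • i) = (LamCo2.wd e).toAdd i := by
    intro e i
    show ((e.toAdd : golayCode) : GolayPt → ZMod 2) (((el LamCo2.Q7 : M24) : Equiv.Perm GolayPt).symm
      (((el LamCo2.Q7 : M24) : Equiv.Perm GolayPt) i)) = _
    rw [Equiv.symm_apply_apply]
    rfl
  have hiter : ∀ (n : ℕ) (e : Multiplicative LamCo2.C2) (i : GolayPt),
      (LamCo2.wd ((LamCo2.wp (el LamCo2.Q7) h1 h2 : Multiplicative LamCo2.C2 → Multiplicative LamCo2.C2)^[n] e)).toAdd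
        ((el LamCo2.Q7) ^ n • i) = (LamCo2.wd e).toAdd i := by
    intro n
    induction n with
    | zero => intro e i; rw [pow_zero, one_smul]; rfl
    | succ n ih =>
      intro e i
      rw [Function.iterate_succ_apply', pow_succ', mul_smul, hσ]
      exact ih e i
  refine dvd_of_free 7 LamCo2.sg (LamCo2.of (permCo0 (el LamCo2.Q7)) (LamCo2.perm_fix _ h1 h2))
    (LamCo2.wp (el LamCo2.Q7) h1 h2) ?_ ?_ isCharacter_W ?_ ψ hψ
  · intro e
    apply LamCo2.inc_injective
    rw [map_mul, map_mul, map_inv, LamCo2.inc_of]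
    show signCo0 (wordPerm (el LamCo2.Q7) (e.toAdd : golayCode)) =
      permCo0 (el LamCo2.Q7) * signCo0 (e.toAdd : golayCode) * (permCo0 (el LamCo2.Q7))⁻¹
    rw [← perm_mul_sign_mul_inv]
  · intro e
    have hw : Function.Injective LamCo2.wd := fun a b h => Subtype.ext (Subtype.ext h)
    apply hw
    apply Multiplicative.toAdd.injective
    funext i
    have h := hiter 7 e i
    rwa [hPp, one_smul] at h
  · intro η hη h0 hcon
    -- the restriction is a sum of linear characters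
    have hWf : W ∘ LamCo2.sg = ∑ j : Fin 4 → I, (((Nat.factorial 4 : ℕ) : ℂ)⁻¹ * (if Function.Injective j then (1 : ℂ) else 0)) •
        (fun e => ((lamH LamCo2.wd (fun t => (j t).1) e : ℂˣ) : ℂ)) := by
      funext e
      rw [Function.comp_apply, W, bH_sg, altk_diagonal, Finset.sum_apply, Finset.mul_sum]
      refine Finset.sum_congr rfl fun j _ => ?_
      rw [Pi.smul_apply, smul_eq_mul, mul_assoc, lamH_apply, sgnC_sum]
      rfl
    have h3 : ∃ j : Fin 4 → I, Function.Injective j ∧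
        (fun e => ((lamH LamCo2.wd (fun t => (j t).1) e : ℂˣ) : ℂ)) = η := by
      by_contra hno
      push Not at hno
      apply h0
      rw [hWf, classInner_sum_left, Finset.sum_eq_zero]
      intro j _
      rw [classInner_smul_left]
      by_cases hj : Function.Injective j
      · rw [classInner_irr_ne (Cfsg.Agent.CharDeep.LinearChar.isIrrCharacter_of_hom (lamH LamCo2.wd fun t => (j t).1)) hη
          (hno j hj), mul_zero]
      · rw [if_neg hj, mul_zero, zero_mul]
    obtain ⟨j, hj', rfl⟩ := h3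
    have hinj : Function.Injective fun t => (el LamCo2.Q7)⁻¹ • (j t).1 := fun s t h =>
      hj' (Subtype.ext (MulAction.injective _ h))
    obtain ⟨m, hm, hne⟩ := exists_moved hP LamCo2.chkQ7 hinj
    obtain ⟨e, he⟩ := LamCo2.mem_of_mem_masks hm
    have h4 := congrFun hcon e
    simp only [Function.comp_apply] at h4
    rw [lamH_apply, lamH_apply] at h4
    have h5 := sgnC_injective h4
    apply hne
    simp only [smul_inv_smul]
    rw [← he, ← h5]
    refine Finset.sum_congr rfl fun t _ => ?_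
    rw [← hσ e, smul_inv_smul]

/-- The principal 2-block of `Co2` has a character of degree divisible by `7`. -/
theorem bd7 : BD 7 2 Spor.Co2 := by
  have := Fintype.ofFinite Spor.Co2
  exact BD.of_odd isCharacter_W W_real W_one (by decide) dvd7

end Cfsg.Agent.H769.PB.Lam23
end

-- part: H769/PB/RowCoTwo
section
/-!
# S4826: the row `Co2` (helper769)

`p = 2`: the elements of order 11 are real with a centralizer of odd order; `p = 3`: the real character of degree 2277;
`p = 5, 11`: 275; `p = 23`: 23; `p = 7`: `Λ⁴` of the 23-dimensional representation (Lam23).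
-/

set_option autoImplicit false

namespace Cfsg.Agent.H769.PB.RowCoTwo

open Cfsg MulAction
open Cfsg.Agent.SporadicStructure.Co2RankThree Cfsg.Agent.Characters.Core
open Cfsg.Agent.H713.Spor.RankThree (pc inner_pc_one inner_pc_self pc_one inner_ne)

open Cfsg.Agent.H133.PB
open scoped ComplexConjugate

universe u

/-! ### the characters of degree 23 -/

theorem im_lchi {G : Type*} [Group G] (f : G →* Co0) (g : G) : (Cfsg.Agent.H419.LeechIrr.lchi f g).im = 0 := by
  have h : Cfsg.Agent.H419.LeechIrr.lchi f g = ((((Cfsg.Agent.Co2Type.Mono.tr8 (f g) : ℤ) : ℝ) / 8 : ℝ) : ℂ) := by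
    rw [Cfsg.Agent.H419.LeechIrr.lchi]
    push_cast
    rfl
  rw [h, Complex.ofReal_im]

theorem im_mu {G : Type*} [Group G] {f : G →* Co0} {μ : IrrCharacter G}
    (hμ : ∀ g, Cfsg.Agent.H419.LeechIrr.lchi f g = 1 + (μ : G → ℂ) g) (g : G) : ((μ : G → ℂ) g).im = 0 := by
  have h1 := congrArg Complex.im (hμ g)
  rw [im_lchi, Complex.add_im, Complex.one_im, zero_add] at h1
  exact h1.symm

theorem deg_mu {G : Type*} [Group G] [Finite G] {f : G →* Co0} {μ : IrrCharacter G}
    (hμ : ∀ g, Cfsg.Agent.H419.LeechIrr.lchi f g = 1 + (μ : G → ℂ) g) : charDegree (μ : G → ℂ) = 23 := by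
  have h4 := hμ 1
  have h6 : Cfsg.Agent.H419.LeechIrr.lchi f 1 = 24 := by
    rw [Cfsg.Agent.H419.LeechIrr.lchi, map_one, Cfsg.Agent.SigZeroCo2.Lin.tr8_one]
    norm_num
  rw [h6, Cfsg.Agent.Blocks.Basic.irr_one_eq_charDegree μ.2] at h4
  have : (24 : ℂ) = ((1 + charDegree (μ : G → ℂ) : ℕ) : ℂ) := by rw [h4]; push_cast; ring
  have h9 : 24 = 1 + charDegree (μ : G → ℂ) := by exact_mod_cast this
  omega

theorem bd_23 {G : Type*} [Group G] [Finite G] {f : G →* Co0} {μ : IrrCharacter G}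
    (hμ : ∀ g, Cfsg.Agent.H419.LeechIrr.lchi f g = 1 + (μ : G → ℂ) g) : BD 23 2 G :=
  BD.of_real μ (im_mu hμ) (by rw [deg_mu hμ]; decide) (by rw [deg_mu hμ])

section

open Cfsg.Agent.H843.IMC Cfsg.Agent.H843.IMC.Co2B

/-- The permutation character of a rank 3 action with constituents of different degrees: they are real. -/
theorem real_two {G : Type*} [Group G] [Finite G] {π : G → ℂ} (hπ : ∀ g, conj (π g) = π g)
    {χ₁ χ₂ : IrrCharacter G} (h : ∀ g, π g = 1 + (χ₁ : G → ℂ) g + (χ₂ : G → ℂ) g)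
    (h1 : charDegree (χ₁ : G → ℂ) ≠ charDegree (χ₂ : G → ℂ)) (h2 : charDegree (χ₂ : G → ℂ) ≠ 1) (g : G) :
    ((χ₂ : G → ℂ) g).im = 0 := by
  classical
  have := Fintype.ofFinite G
  have hone : charDegree (1 : G → ℂ) = 1 := by
    unfold charDegree
    simp
  have hπ' : π = 1 + (χ₁ : G → ℂ) + (χ₂ : G → ℂ) := funext h
  refine real_of_unique (W := π) hπ ?_ ?_ g
  · have h3 : (1 : G → ℂ) ≠ (χ₂ : G → ℂ) := fun h4 => h2 (by rw [← h4, hone])
    have h4 : (χ₁ : G → ℂ) ≠ (χ₂ : G → ℂ) := fun h5 => h1 (by rw [h5])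
    rw [hπ', classInner_add_left, classInner_add_left, classInner_irr_ne isIrr_one χ₂.2 h3,
      classInner_irr_ne χ₁.2 χ₂.2 h4, classInner_irr_self χ₂.2]
    norm_num
  · intro ψ h0 hd
    by_contra hne
    apply h0
    have h3 : (1 : G → ℂ) ≠ (ψ : G → ℂ) := fun h4 => h2 (by rw [← hd, ← h4, hone])
    have h4 : (χ₁ : G → ℂ) ≠ (ψ : G → ℂ) := fun h5 => h1 (by rw [h5, hd])
    have h5 : (χ₂ : G → ℂ) ≠ (ψ : G → ℂ) := fun h6 => hne (Subtype.ext h6.symm)
    rw [hπ', classInner_add_left, classInner_add_left, classInner_irr_ne isIrr_one ψ.2 h3,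
      classInner_irr_ne χ₁.2 ψ.2 h4, classInner_irr_ne χ₂.2 ψ.2 h5]
    norm_num

theorem exists_275 : ∃ χ : IrrCharacter Spor.Co2, charDegree (χ : Spor.Co2 → ℂ) = 275 ∧
    ∀ g, ((χ : Spor.Co2 → ℂ) g).im = 0 := by
  classical
  have := Fintype.ofFinite Y
  obtain ⟨χ₁, χ₂, h1, h2, h3⟩ := Co2A.of_R3 Co2A.card_co2 r3
  refine ⟨χ₂, h2, real_two (π := fun g => (Nat.card (fixedBy Y g) : ℂ)) (fun g => Complex.conj_natCast _) h3 ?_ ?_⟩
  · rw [h1, h2]; norm_num
  · rw [h2]; norm_num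

/-- The character of degree 2277 is real (proof of `H843.IMC.Co2B.hasDeg_2277`). -/
theorem exists_2277 : ∃ χ : IrrCharacter Spor.Co2, charDegree (χ : Spor.Co2 → ℂ) = 2277 ∧
    ∀ g, ((χ : Spor.Co2 → ℂ) g).im = 0 := by
  classical
  have := Fintype.ofFinite Spor.Co2
  have := Fintype.ofFinite Y
  have hne : Nonempty X := ⟨⟨y1, y1_mem_A⟩⟩
  have hne' : Nonempty Y := ⟨mk ⟨y1, y1_mem_A⟩⟩
  obtain ⟨χ₁, χ₂, h1, h2, h3⟩ := Co2A.of_R3 Co2A.card_co2 r3
  obtain ⟨μ, hμ⟩ := Co2A.exists_mu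
  have hμ23 : charDegree (μ : Spor.Co2 → ℂ) = 23 := by
    obtain ⟨μ', h'⟩ := Co2A.hasDeg_23
    have h4 := hμ 1
    have h6 : Cfsg.Agent.H419.LeechIrr.lchi Cfsg.Agent.H419.Spor.Co2.inc 1 = 24 := by
      rw [Cfsg.Agent.H419.LeechIrr.lchi, map_one, Cfsg.Agent.SigZeroCo2.Lin.tr8_one]
      norm_num
    rw [h6, Cfsg.Agent.Blocks.Basic.irr_one_eq_charDegree μ.2] at h4
    have : (24 : ℂ) = ((1 + charDegree (μ : Spor.Co2 → ℂ) : ℕ) : ℂ) := by rw [h4]; push_cast; ring
    have h9 : 24 = 1 + charDegree (μ : Spor.Co2 → ℂ) := by exact_mod_cast this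
    omega
  have ne_of_deg : ∀ {α β : IrrCharacter Spor.Co2}, charDegree (α : Spor.Co2 → ℂ) ≠ charDegree (β : Spor.Co2 → ℂ) →
      (α : Spor.Co2 → ℂ) ≠ β := by
    intro α β h hcon
    exact h (by rw [hcon])
  have hone : charDegree (1 : Spor.Co2 → ℂ) = 1 := by
    unfold charDegree
    simp
  have hμ1 : (μ : Spor.Co2 → ℂ) ≠ 1 := by
    intro h
    rw [h, hone] at hμ23
    omega
  have hχ1 : (χ₁ : Spor.Co2 → ℂ) ≠ 1 := by
    intro h
    rw [h, hone] at h1
    omega
  have hχ2 : (χ₂ : Spor.Co2 → ℂ) ≠ 1 := by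
    intro h
    rw [h, hone] at h2
    omega
  have h12 : (χ₁ : Spor.Co2 → ℂ) ≠ χ₂ := ne_of_deg (by rw [h1, h2]; norm_num)
  have h1μ : (χ₁ : Spor.Co2 → ℂ) ≠ μ := ne_of_deg (by rw [h1, hμ23]; norm_num)
  have h2μ : (χ₂ : Spor.Co2 → ℂ) ≠ μ := ne_of_deg (by rw [h2, hμ23]; norm_num)
  -- the permutation character of the pairs
  have hY : pc Spor.Co2 Y = 1 + (χ₁ : Spor.Co2 → ℂ) + (χ₂ : Spor.Co2 → ℂ) := by
    funext g
    exact h3 g
  have hYY : classInner (pc Spor.Co2 Y) (pc Spor.Co2 Y) = 3 := by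
    rw [hY]
    simp only [classInner_add_left, classInner_add_right]
    rw [classInner_irr_self isIrr_one, classInner_irr_self χ₁.2, classInner_irr_self χ₂.2,
      classInner_irr_ne isIrr_one χ₁.2 hχ1.symm, classInner_irr_ne isIrr_one χ₂.2 hχ2.symm,
      classInner_irr_ne χ₁.2 isIrr_one hχ1, classInner_irr_ne χ₂.2 isIrr_one hχ2,
      classInner_irr_ne χ₁.2 χ₂.2 h12, classInner_irr_ne χ₂.2 χ₁.2 h12.symm]
    norm_num
  have hYμ : classInner (pc Spor.Co2 Y) (μ : Spor.Co2 → ℂ) = 0 := by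
    rw [hY]
    simp only [classInner_add_left]
    rw [classInner_irr_ne isIrr_one μ.2 hμ1.symm, classInner_irr_ne χ₁.2 μ.2 h1μ, classInner_irr_ne χ₂.2 μ.2 h2μ]
    norm_num
  have hμY : classInner (μ : Spor.Co2 → ℂ) (pc Spor.Co2 Y) = 0 := by
    rw [← classInner_conj_symm, hYμ, map_zero]
  -- the numbers of orbits
  obtain ⟨N1, hN1⟩ : ∃ n : ℕ, n = Nat.card (Quotient (orbitRel Spor.Co2 (X × X))) := ⟨_, rfl⟩
  obtain ⟨N2, hN2⟩ : ∃ n : ℕ, n = Nat.card (Quotient (orbitRel Spor.Co2 (X × Y))) := ⟨_, rfl⟩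
  have hN1' : N1 ≤ 5 := by rw [hN1]; exact _root_.Cfsg.Agent.H843.IMC.Co2B.rank_le
  have hN3 : Nat.card (Quotient (orbitRel Spor.Co2 (Y × Y))) = 3 := by
    have h4 := inner_pc_self (G := Spor.Co2) Y
    rw [hYY] at h4
    exact_mod_cast h4.symm
  have hN2' : 3 ≤ N2 := by rw [hN2, ← hN3]; exact rank_mono
  have hXX : classInner (pc Spor.Co2 X) (pc Spor.Co2 X) = N1 := by rw [hN1]; exact inner_pc_self X
  have hXY : classInner (pc Spor.Co2 X) (pc Spor.Co2 Y) = N2 := by rw [hN2]; exact inner_pc_pc X Y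
  have hYX : classInner (pc Spor.Co2 Y) (pc Spor.Co2 X) = N2 := by
    rw [← classInner_conj_symm, hXY, Complex.conj_natCast]
  -- the character of degree 23
  have hXμ : classInner (pc Spor.Co2 X) (μ : Spor.Co2 → ℂ) ≠ 0 := by
    refine inner_ne Cfsg.Agent.H419.Spor.Co2.inc μ hμ1 (d := 1) (fun g => by rw [hμ g]; norm_num) X
      (fun x => Cfsg.Agent.H419.Spor.Co2.c • x.1) ?_ ?_
    · intro γ x
      show Cfsg.Agent.H419.Spor.Co2.c • (toCo0 γ • x.1) =
        (Cfsg.Agent.H419.Spor.Co2.c * toCo0 γ * Cfsg.Agent.H419.Spor.Co2.c⁻¹) • Cfsg.Agent.H419.Spor.Co2.c • x.1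
      rw [mul_smul, mul_smul, inv_smul_smul]
    · intro x
      obtain ⟨γ, hγ⟩ := exists_smul x (op x)
      refine ⟨γ, fun hcon => op_ne x ?_⟩
      rw [← hγ]
      apply Subtype.ext
      have h4 : Cfsg.Agent.H419.Spor.Co2.inc γ • Cfsg.Agent.H419.Spor.Co2.c • x.1 =
          Cfsg.Agent.H419.Spor.Co2.c • (toCo0 γ • x.1) := by
        show (Cfsg.Agent.H419.Spor.Co2.c * toCo0 γ * Cfsg.Agent.H419.Spor.Co2.c⁻¹) • Cfsg.Agent.H419.Spor.Co2.c • x.1 = _
        rw [mul_smul, mul_smul, inv_smul_smul]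
      rw [h4] at hcon
      exact MulAction.injective Cfsg.Agent.H419.Spor.Co2.c hcon
  obtain ⟨m, hm⟩ := classInner_isNat (Cfsg.Agent.S0157.isCharacter_fixedBy (G := Spor.Co2) X) (isIrr_isCharacter μ.2)
  change classInner (pc Spor.Co2 X) μ = m at hm
  have hm0 : m ≠ 0 := by
    rintro rfl
    exact hXμ (by rw [hm]; norm_num)
  have hm' : classInner (μ : Spor.Co2 → ℂ) (pc Spor.Co2 X) = m := by
    rw [← classInner_conj_symm, hm, Complex.conj_natCast]
  -- the difference
  set ψ : Spor.Co2 → ℂ := pc Spor.Co2 X - (pc Spor.Co2 Y + (μ : Spor.Co2 → ℂ)) with hψ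
  have hgen : IsGeneralizedCharacter Spor.Co2 ψ := by
    rw [isGeneralizedCharacter_def]
    exact ⟨_, _, Cfsg.Agent.S0157.isCharacter_fixedBy X,
      isCharacter_add (Cfsg.Agent.S0157.isCharacter_fixedBy Y) (isIrr_isCharacter μ.2), rfl⟩
  have hval : ψ 1 = 2277 := by
    rw [hψ, Pi.sub_apply, Pi.add_apply, pc_one, pc_one, card_X, card_Y,
      Cfsg.Agent.Blocks.Basic.irr_one_eq_charDegree μ.2, hμ23]
    norm_num
  have hnorm : classInner ψ ψ = (((N1 : ℤ) - 2 * N2 + 4 - 2 * m : ℤ) : ℂ) := by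
    rw [hψ]
    simp only [classInner_sub_left, classInner_sub_right, classInner_add_left, classInner_add_right]
    rw [hXX, hXY, hYX, hYY, hm, hm', hYμ, hμY, classInner_irr_self μ.2]
    push_cast
    ring
  have hpos : ψ ≠ 0 := by
    intro h
    rw [h, Pi.zero_apply] at hval
    norm_num at hval
  have hnonneg : 0 < (N1 : ℤ) - 2 * N2 + 4 - 2 * m := by
    have h4 := classInner_self_eq_ofReal ψ
    rw [hnorm] at h4
    have h5 : (((N1 : ℤ) - 2 * N2 + 4 - 2 * m : ℤ) : ℝ) =
        (Nat.card Spor.Co2 : ℝ)⁻¹ * ∑ g : Spor.Co2, Complex.normSq (ψ g) := by exact_mod_cast h4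
    have h6 : (0 : ℝ) ≤ (((N1 : ℤ) - 2 * N2 + 4 - 2 * m : ℤ) : ℝ) := by
      rw [h5]
      exact mul_nonneg (by (clear * -; positivity)) (Finset.sum_nonneg fun _ _ => Complex.normSq_nonneg _)
    have h7 : (0 : ℤ) ≤ (N1 : ℤ) - 2 * N2 + 4 - 2 * m := by exact_mod_cast h6
    refine lt_of_le_of_ne h7 fun h8 => hpos ?_
    apply classInner_self_eq_zero
    rw [hnorm, ← h8]
    norm_num
  have hone' : (N1 : ℤ) - 2 * N2 + 4 - 2 * m = 1 := by omega
  rw [hone'] at hnorm
  rcases isIrr_of_generalized hgen (by rw [hnorm]; norm_num) with h | h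
  · refine ⟨⟨ψ, h⟩, Cfsg.Agent.H670.PSing.charDegree_eq_of (by show ψ 1 = _; rw [hval]; norm_num), fun g => ?_⟩
    show (ψ g).im = 0
    rw [hψ, Pi.sub_apply, Pi.add_apply, Complex.sub_im, Complex.add_im, im_mu hμ g]
    show (((Nat.card (fixedBy X g) : ℕ) : ℂ)).im - ((((Nat.card (fixedBy Y g) : ℕ) : ℂ)).im + 0) = 0
    rw [Complex.natCast_im, Complex.natCast_im]
    norm_num
  · exfalso
    obtain ⟨n, hn, hn'⟩ := isIrr_apply_one h
    rw [Pi.neg_apply, hval] at hn'
    have h4 : ((n : ℤ) : ℂ) + ((2277 : ℤ) : ℂ) = 0 := by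
      push_cast
      rw [← hn']
      ring
    have h5 : (n : ℤ) + 2277 = 0 := by exact_mod_cast h4
    omega

end

/-! ### the prime 2 -/

section

open Cfsg.Agent.H729.PairEleven Cfsg.Agent.SporadicStructure.M24El Cfsg.Agent.SporadicA.GolayPerm
open Cfsg.Agent.SporadicA.Co0Mono Cfsg.Agent.H843.IMC Cfsg.Agent.H729.MData

/-- The permutation `i ↦ -1/i`. -/
def PN : ℕ := 1795248432537898728475572672376535

theorem okN : ok PN = true := by decide +kernel

theorem conjN : pcomp (pcomp PN (pcomp c11 PN)) c11 = idP := by decide +kernel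

theorem sqN : pcomp PN PN = idP := by decide +kernel

theorem fixN : (Nat.beq (papp PN 23) 0 && Nat.beq (papp PN 0) 23) = true := by decide +kernel

theorem elN_sq : el PN * el PN = 1 := by rw [← el_pcomp okN okN, sqN, el_idP]

theorem elN_inv : (el PN)⁻¹ = el PN := inv_eq_of_mul_eq_one_right elN_sq

theorem elN_conj : el PN * mu * (el PN)⁻¹ = mu⁻¹ := by
  rw [elN_inv]
  apply eq_inv_of_mul_eq_one_left
  have h := congrArg el conjN
  have h1 : ok (pcomp c11 PN) = true := ok_pcomp okc okN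
  rw [el_pcomp (ok_pcomp okN h1) okc, el_pcomp okN h1, el_pcomp okc okN, el_idP] at h
  rw [← h]
  simp only [mu, mul_assoc]

theorem permN_fix : permCo0 (el PN) • Spor.leechU = Spor.leechU := by
  apply Subtype.ext
  rw [permCo0_smul]
  funext i
  rw [permMap_apply]
  show Spor.vecU _ = Spor.vecU i
  have hf := fixN
  rw [Bool.and_eq_true] at hf
  have h1 : (el PN : Equiv.Perm GolayPt) none = some 0 := by
    apply Cfsg.Agent.SporadicA.GolayBase.idx_injective
    have h := idx_el_smul okN none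
    rw [show Cfsg.Agent.SporadicA.GolayBase.idx none = 23 from rfl, Nat.eq_of_beq_eq_true hf.1] at h
    exact h
  have h2 : (el PN : Equiv.Perm GolayPt) (some 0) = none := by
    apply Cfsg.Agent.SporadicA.GolayBase.idx_injective
    have h := idx_el_smul okN (some 0)
    rw [show Cfsg.Agent.SporadicA.GolayBase.idx (some 0) = 0 from rfl, Nat.eq_of_beq_eq_true hf.2] at h
    exact h
  have h3 : (el PN : Equiv.Perm GolayPt).symm i = none ↔ i = some 0 := by rw [Equiv.symm_apply_eq, h1]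
  have h4 : (el PN : Equiv.Perm GolayPt).symm i = some 0 ↔ i = none := by rw [Equiv.symm_apply_eq, h2]
  unfold Spor.vecU
  simp only [h3, h4, or_comm]

/-- The element of order 11. -/
noncomputable def x11 : Spor.Co2 := LamCo2.of xx fix_U

theorem order_x11 : orderOf x11 = 11 := by
  have h : orderOf (LamCo2.inc x11) = 11 := by
    rw [x11, LamCo2.inc_of, xx, orderOf_injective permCo0 Cfsg.Agent.CoOneType.Thirteen.permCo0_injective]
    exact orderOf_mu
  rwa [orderOf_injective LamCo2.inc LamCo2.inc_injective] at h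

theorem isConj_x11 : IsConj x11 x11⁻¹ := by
  rw [isConj_iff]
  refine ⟨LamCo2.of (permCo0 (el PN)) permN_fix, ?_⟩
  apply LamCo2.inc_injective
  rw [map_mul, map_mul, map_inv, map_inv, x11, LamCo2.inc_of, LamCo2.inc_of, xx, ← map_inv, ← map_mul, ← map_mul,
    ← map_inv, elN_conj]

theorem odd_x11 : Odd (Nat.card (Subgroup.centralizer ({x11} : Set Spor.Co2))) := by
  rw [← Nat.not_even_iff_odd]
  intro h
  have h2 : Fact (Nat.Prime 2) := ⟨Nat.prime_two⟩
  obtain ⟨⟨s, hs⟩, ho⟩ := exists_prime_orderOf_dvd_card' (G := Subgroup.centralizer ({x11} : Set Spor.Co2)) 2 h.two_dvd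
  have ho' : orderOf s = 2 := by rwa [Subgroup.orderOf_mk] at ho
  have hs1 : s * s = 1 := by rw [← sq, ← ho', pow_orderOf_eq_one]
  have hc := Subgroup.mem_centralizer_singleton_iff.1 hs
  have h3 : LamCo2.inc s = 1 := by
    apply eq_one_of_fix
    · have h4 := congrArg LamCo2.inc hc
      rwa [map_mul, map_mul, x11, LamCo2.inc_of] at h4
    · rw [← map_mul, hs1, map_one]
    · exact s.2.2
  have h4 : s = 1 := LamCo2.inc_injective (by rw [h3, map_one])
  rw [h4, orderOf_one] at ho'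
  omega

theorem row_two : Row 2 Spor.Co2 := by
  have : Fact (Nat.Prime 11) := ⟨by norm_num⟩
  refine Row.of_real_odd (q := 11) ⟨1, by rw [order_x11, pow_one]⟩ ?_ isConj_x11 odd_x11
  intro h
  have h1 := order_x11
  rw [h, orderOf_one] at h1
  omega

end

/-- **The row `Co2`.** -/
theorem row_co2 {S : Type u} [Group S] (h : Cfsg.Spor.IsoCo2 S) {p : ℕ} (hp : p.Prime) (hd : p ∣ Nat.card S) :
    Row p S := by
  obtain ⟨e⟩ := h
  refine Row.of_equiv e ?_
  have hcard := Cfsg.Agent.H843.IMC.Co2A.card_co2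
  rw [Nat.card_congr e.toEquiv, hcard] at hd
  have h5 : p ∣ 2 ^ 18 * 3 ^ 6 * 5 ^ 3 * 7 ^ 1 * 11 ^ 1 * 23 ^ 1 := by
    norm_num
    exact hd
  have key : p = 2 ∨ p = 3 ∨ p = 5 ∨ p = 7 ∨ p = 11 ∨ p = 23 := by
    rcases hp.dvd_mul.1 h5 with h5 | h5
    · rcases hp.dvd_mul.1 h5 with h5 | h5
      · rcases hp.dvd_mul.1 h5 with h5 | h5
        · rcases hp.dvd_mul.1 h5 with h5 | h5
          · rcases hp.dvd_mul.1 h5 with h5 | h5
            · exact Or.inl (Cfsg.Agent.H843.IMC.Rows.two' hp (by norm_num) h5)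
            · exact Or.inr (Or.inl (Cfsg.Agent.H843.IMC.Rows.two' hp (by norm_num) h5))
          · exact Or.inr (Or.inr (Or.inl (Cfsg.Agent.H843.IMC.Rows.two' hp (by norm_num) h5)))
        · exact Or.inr (Or.inr (Or.inr (Or.inl (Cfsg.Agent.H843.IMC.Rows.two' hp (by norm_num) h5))))
      · exact Or.inr (Or.inr (Or.inr (Or.inr (Or.inl (Cfsg.Agent.H843.IMC.Rows.two' hp (by norm_num) h5)))))
    · exact Or.inr (Or.inr (Or.inr (Or.inr (Or.inr (Cfsg.Agent.H843.IMC.Rows.two' hp (by norm_num) h5)))))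
  have h2 : ∀ {q : ℕ}, q ≠ 2 → BD q 2 Spor.Co2 → Row q Spor.Co2 := fun hq hb =>
    Row.intro Nat.prime_two (Ne.symm hq) (by rw [hcard]; norm_num) hb
  rcases key with rfl | rfl | rfl | rfl | rfl | rfl
  · exact row_two
  · obtain ⟨χ, h3, h4⟩ := exists_2277
    exact h2 (by norm_num) (BD.of_real χ h4 (by rw [h3]; decide) (by rw [h3]; norm_num))
  · obtain ⟨χ, h3, h4⟩ := exists_275
    exact h2 (by norm_num) (BD.of_real χ h4 (by rw [h3]; decide) (by rw [h3]; norm_num))
  · exact h2 (by norm_num) Lam23.bd7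
  · obtain ⟨χ, h3, h4⟩ := exists_275
    exact h2 (by norm_num) (BD.of_real χ h4 (by rw [h3]; decide) (by rw [h3]; norm_num))
  · obtain ⟨μ, hμ⟩ := Cfsg.Agent.H843.IMC.Co2A.exists_mu
    exact h2 (by norm_num) (bd_23 hμ)

end Cfsg.Agent.H769.PB.RowCoTwo
end

private theorem dce_ceba6cea77cc : _root_.True := by
  try have : _root_.True := by simp only [_root_.Cfsg.Agent.H843.IMC.LamCo2.wp.congr_simp]
  try have : _root_.True := by simp only [_root_.Cfsg.Agent.H729.PairEleven.mu.eq_1]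
  try have : _root_.True := by simp only [_root_.Cfsg.Agent.H729.PairEleven.xx.eq_1]
  try have : _root_.True := by simp only [_root_.Cfsg.Spor.vecU.eq_1]
  try have : _root_.True := by simp only [_root_.Cfsg.Agent.H769.PB.RowCoTwo.x11.eq_1]
  try have : _root_.True := by simp only [_root_.Cfsg.Agent.H769.PB.Lam23.W.eq_1]
  exact _root_.True.intro
end

-- part: H345/K4/Co2
section
set_option linter.all false
open scoped Cfsg.Agent.FastGrp

/-!
# `Co2`: five good characters (helper345, for S4947 and S4547)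

`1`, `23`, `275`, `2277` and a constituent of odd degree of `Λ²(23)` : it has no vector fixed by the group `2^10` of sign
changes, the characters `1` and `23` have one, and its degree is at most `253`.
-/

set_option autoImplicit false

namespace Cfsg.Agent.H345.K4.Co2

open Cfsg Cfsg.Spor Cfsg.Agent.H843.IMC Cfsg.Agent.H843.IMC.Syn Cfsg.Agent.H843.IMC.Lam Cfsg.Agent.H843.IMC.LamCo1
open Cfsg.Agent.SporadicA.GolayBase Cfsg.Agent.SporadicA.GolayPerm Cfsg.Agent.SporadicStructure.M24El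
open Cfsg.Agent.SporadicA.Co0Mono Cfsg.Agent.H419.LeechIrr
open Cfsg.Agent.Characters.Core Cfsg.Agent.H769.PB.Lam23
open scoped ComplexConjugate

universe u

/-! ### generalities -/

/-- `φ` is rational valued -/
def Rat {G : Type*} (φ : G → ℂ) : Prop := ∀ g, ∃ q : ℚ, φ g = q

/-- A constituent of a character whose restriction to a subgroup does not contain the trivial one. -/
theorem sum_eq_zero_of_constituent {G E : Type*} [Group G] [Fintype G] [Group E] [Fintype E] (f : E →* G)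
    {Ψ : G → ℂ} (hΨ : IsCharacter G Ψ) (h0 : ∑ e : E, Ψ (f e) = 0) (χ : IrrCharacter G)
    (hχ : classInner Ψ (χ : G → ℂ) ≠ 0) : ∑ e : E, (χ : G → ℂ) (f e) = 0 := by
  classical
  have : Finite (IrrCharacter G) := finite_irr
  have := Fintype.ofFinite (IrrCharacter G)
  have hE : (Nat.card E : ℂ) ≠ 0 := by exact_mod_cast (Nat.card_pos (α := E)).ne'
  have key : ∀ φ : G → ℂ, classInner (φ ∘ f) (1 : E → ℂ) = (Nat.card E : ℂ)⁻¹ * ∑ e : E, φ (f e) := by
    intro φ
    rw [classInner_def]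
    congr 1
    refine Finset.sum_congr rfl fun e _ => ?_
    simp
  -- the multiplicities of the trivial character
  have hn : ∀ ψ : IrrCharacter G, ∃ n : ℕ, classInner ((ψ : G → ℂ) ∘ f) (1 : E → ℂ) = n := fun ψ =>
    classInner_isNat (isCharacter_comp f (isIrr_isCharacter ψ.2)) (isIrr_isCharacter isIrr_one)
  choose n hn using hn
  have h1 : classInner (Ψ ∘ f) (1 : E → ℂ) = 0 := by rw [key, h0, mul_zero]
  have h2 := Cfsg.Agent.H740.K4.eq_sum hΨ
  have h3 : Ψ ∘ f = ∑ ψ : IrrCharacter G, (Cfsg.Agent.H740.K4.mul Ψ ψ : ℂ) • ((ψ : G → ℂ) ∘ f) := by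
    funext e
    rw [Function.comp_apply, h2, Finset.sum_apply, Finset.sum_apply]
    refine Finset.sum_congr rfl fun ψ _ => ?_
    rw [← h2, Pi.smul_apply, Pi.smul_apply, nsmul_eq_mul, smul_eq_mul]
    rfl
  rw [h3, classInner_sum_left] at h1
  have h4 : ∀ ψ : IrrCharacter G, classInner ((Cfsg.Agent.H740.K4.mul Ψ ψ : ℂ) • ((ψ : G → ℂ) ∘ f)) (1 : E → ℂ) =
      ((Cfsg.Agent.H740.K4.mul Ψ ψ * n ψ : ℕ) : ℂ) := by
    intro ψ
    rw [classInner_smul_left, hn]
    push_cast
    ring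
  rw [Finset.sum_congr rfl fun ψ _ => h4 ψ, ← Nat.cast_sum] at h1
  have h5 : ∑ ψ : IrrCharacter G, Cfsg.Agent.H740.K4.mul Ψ ψ * n ψ = 0 := by exact_mod_cast h1
  have h6 := (Finset.sum_eq_zero_iff.1 h5) χ (Finset.mem_univ _)
  have h7 : Cfsg.Agent.H740.K4.mul Ψ χ ≠ 0 := by
    intro h
    apply hχ
    rw [Cfsg.Agent.H740.K4.mul_spec hΨ, h, Nat.cast_zero]
  have h8 : n χ = 0 := (Nat.mul_eq_zero.1 h6).resolve_left h7
  have h9 := hn χ
  rw [h8, Nat.cast_zero, key] at h9
  exact (mul_eq_zero.1 h9).resolve_left (inv_ne_zero hE)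

/-- The degree of a constituent. -/
theorem degree_le {G : Type*} [Group G] [Fintype G] {Ψ : G → ℂ} (hΨ : IsCharacter G Ψ) {N : ℕ} (hN : Ψ 1 = N)
    {χ : G → ℂ} (hχ : IsIrrCharacter G χ) (h : classInner Ψ χ ≠ 0) : charDegree χ ≤ N := by
  classical
  have : Finite (IrrCharacter G) := finite_irr
  have := Fintype.ofFinite (IrrCharacter G)
  have h2 := congrFun (Cfsg.Agent.H740.K4.eq_sum hΨ) 1
  rw [Finset.sum_apply, hN] at h2
  have h3 : ∀ ψ : IrrCharacter G, (Cfsg.Agent.H740.K4.mul Ψ ψ • (ψ : G → ℂ)) 1 =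
      ((Cfsg.Agent.H740.K4.mul Ψ ψ * charDegree (ψ : G → ℂ) : ℕ) : ℂ) := by
    intro ψ
    rw [Pi.smul_apply, Cfsg.Agent.Blocks.Basic.irr_one_eq_charDegree ψ.2, nsmul_eq_mul, Nat.cast_mul]
  rw [Finset.sum_congr rfl fun ψ _ => h3 ψ] at h2
  have h4 : N = ∑ ψ : IrrCharacter G, Cfsg.Agent.H740.K4.mul Ψ ψ * charDegree (ψ : G → ℂ) := by exact_mod_cast h2
  have h5 : Cfsg.Agent.H740.K4.mul Ψ ⟨χ, hχ⟩ ≠ 0 := by
    intro h0
    apply h
    have h6 := Cfsg.Agent.H740.K4.mul_spec hΨ ⟨χ, hχ⟩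
    rw [h0, Nat.cast_zero] at h6
    exact h6
  rw [h4]
  refine le_trans ?_ (Finset.single_le_sum (f := fun ψ : IrrCharacter G =>
    Cfsg.Agent.H740.K4.mul Ψ ψ * charDegree (ψ : G → ℂ)) (fun _ _ => Nat.zero_le _)
    (Finset.mem_univ (⟨χ, hχ⟩ : IrrCharacter G)))
  exact Nat.le_mul_of_pos_left _ (Nat.pos_of_ne_zero h5)

/-! ### the 23-dimensional representation -/

theorem bm_rat (g : Co0) (i j : I) : ∃ q : ℚ, bm g i j = q := by
  have h : ∀ a b, ∃ q : ℚ, matC g a b = q := by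
    intro a b
    refine ⟨(((g • Cfsg.Agent.SporadicStructure.Co0Base.e8 b : leechLattice) : GolayPt → ℤ) a : ℚ) / 8, ?_⟩
    rw [matC_apply]
    push_cast
    rfl
  unfold bm
  obtain ⟨q1, h1⟩ := h i.1 j.1
  obtain ⟨q2, h2⟩ := h none j.1
  split_ifs
  · exact ⟨q1 - q2, by rw [h1, h2]; push_cast; rfl⟩
  · exact ⟨q1, by rw [h1, sub_zero]⟩

theorem altk_rat {J : Type*} [Fintype J] [DecidableEq J] (k : ℕ) (A : Matrix J J ℂ)
    (h : ∀ i j, ∃ q : ℚ, A i j = q) : ∃ q : ℚ, altk k A = q := by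
  choose q hq using h
  refine ⟨((k.factorial : ℚ))⁻¹ * ∑ i : Fin k → J, ∑ σ : Equiv.Perm (Fin k), ((Equiv.Perm.sign σ : ℤ) : ℚ) *
    ∏ t, q (i (σ t)) (i t), ?_⟩
  rw [altk_eq]
  push_cast
  (with_reducible congr 1)
  refine Finset.sum_congr rfl fun i _ => Finset.sum_congr rfl fun σ _ => ?_
  congr 1
  exact Finset.prod_congr rfl fun t _ => hq _ _

/-- The character of the exterior square. -/
noncomputable def W2 (g : Spor.Co2) : ℂ := altk 2 (bH g)

theorem isCharacter_W2 : IsCharacter Spor.Co2 W2 := isCharacter_altk 2 bH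

theorem W2_rat : Rat W2 := fun g => altk_rat 2 (bH g) fun i j => bm_rat _ i j

theorem W2_one : W2 1 = (253 : ℕ) := by
  unfold W2
  rw [map_one, altk_one, card_I]
  norm_num [Nat.factorial, Nat.descFactorial]

/-- The character of degree 23 and the matrices. -/
theorem trace_bH {μ : IrrCharacter Spor.Co2}
    (hμ : ∀ g, lchi Cfsg.Agent.H419.Spor.Co2.inc g = 1 + (μ : Spor.Co2 → ℂ) g) (γ : Spor.Co2) :
    (μ : Spor.Co2 → ℂ) γ = Matrix.trace (bH γ) := by
  have hg : LamCo2.inc γ • Spor.leechU = Spor.leechU := γ.2.2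
  have h1 : lchi Cfsg.Agent.H419.Spor.Co2.inc γ = Matrix.trace (matC (LamCo2.inc γ)) := by
    have h2 : Cfsg.Agent.H419.Spor.Co2.inc γ = Cfsg.Agent.H419.Spor.Co2.c * LamCo2.inc γ * Cfsg.Agent.H419.Spor.Co2.c⁻¹ := rfl
    have h3 : lchi Cfsg.Agent.H419.Spor.Co2.inc γ = Matrix.trace (matC (Cfsg.Agent.H419.Spor.Co2.inc γ)) := by
      have h4 := trace_repC (Cfsg.Agent.H419.Spor.Co2.inc γ)
      rw [lchi, ← h4]
      show LinearMap.trace ℂ _ (Matrix.toLin' (matC _)) = _
      rw [Matrix.trace_toLin'_eq]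
    rw [h3, h2, matC_mul, matC_mul, Matrix.trace_mul_comm, ← mul_assoc, ← matC_mul, inv_mul_cancel, matC_one, one_mul]
  have h2 := hμ γ
  rw [h1] at h2
  have h3 : (μ : Spor.Co2 → ℂ) γ = Matrix.trace (matC (LamCo2.inc γ)) - 1 := by rw [h2]; ring
  rw [h3]
  have h4 : Matrix.trace (bH γ) = ∑ i : I, (matC (LamCo2.inc γ) i.1 i.1 -
      if i.1 = some 0 then matC (LamCo2.inc γ) none i.1 else 0) := rfl
  rw [h4, Finset.sum_sub_distrib]
  have h5 : ∑ i : I, (if i.1 = some 0 then matC (LamCo2.inc γ) none i.1 else 0) =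
      matC (LamCo2.inc γ) none (some 0) := by
    rw [Finset.sum_eq_single (⟨some 0, by simp⟩ : I)]
    · rw [if_pos rfl]
    · intro b _ hb
      rw [if_neg (fun h => hb (Subtype.ext h))]
    · intro h
      exact absurd (Finset.mem_univ _) h
  have h6 : Matrix.trace (matC (LamCo2.inc γ)) = matC (LamCo2.inc γ) none none +
      ∑ i : I, matC (LamCo2.inc γ) i.1 i.1 := by
    rw [Matrix.trace]
    exact Fintype.sum_eq_add_sum_subtype_ne _ none
  have h7 := fix_sum hg none
  rw [if_pos rfl, if_neg (by simp), add_zero] at h7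
  rw [h5, h6]
  linear_combination h7

/-! ### the group of sign changes -/

section

theorem sgnC_add (a b : ZMod 2) : sgnC (a + b) = sgnC a * sgnC b := by
  have h := sgnC_sum ![a, b]
  simpa [Fin.sum_univ_two, Fin.prod_univ_two] using h

/-- The coordinate of a word, as a sign. -/
noncomputable def s (i : GolayPt) (e : Multiplicative LamCo2.C2) : ℂ :=
  sgnC ((((e.toAdd : golayCode) : GolayPt → ZMod 2) i :))

theorem s_mul (i : GolayPt) (e f : Multiplicative LamCo2.C2) : s i (e * f) = s i e * s i f := by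
  unfold s
  rw [← sgnC_add]
  rfl

theorem sum_of_ne {i j : GolayPt} [Fintype (Multiplicative LamCo2.C2)] (h : ∃ e, s i e ≠ s j e) :
    ∑ e, s i e * s j e = 0 := by
  obtain ⟨f, hf⟩ := h
  have h1 : ∑ e, s i e * s j e = (s i f * s j f) * ∑ e, s i e * s j e := by
    rw [Finset.mul_sum, ← Equiv.sum_comp (Equiv.mulLeft f)]
    refine Finset.sum_congr rfl fun e _ => ?_
    rw [Equiv.coe_mulLeft, s_mul, s_mul]
    ring
  have h2 : s i f * s j f ≠ 1 := by
    intro h3
    apply hf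
    have hsq : s j f * s j f = 1 := by
      unfold s
      rw [← sgnC_add, CharTwo.add_self_eq_zero, sgnC_zero]
    calc s i f = s i f * (s j f * s j f) := by rw [hsq, mul_one]
      _ = s j f := by rw [← mul_assoc, h3, one_mul]
  have h3 : (1 - s i f * s j f) * ∑ e, s i e * s j e = 0 := by linear_combination h1
  exact (mul_eq_zero.1 h3).resolve_left (sub_ne_zero.2 h2.symm)

theorem sep_chk : ((List.range 23).all fun a => (List.range 23).all fun b => Nat.beq a b ||
    LamCo2.masks.any fun m => m.testBit a != m.testBit b) = true := by decide +kernel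

theorem idx_lt23 {i : GolayPt} (hi : i ≠ none) : idx i < 23 := by
  have h1 := idx_lt i
  have h2 : idx i ≠ 23 := fun h => hi (idx_injective (by rw [h]; rfl))
  omega

theorem exists_ne {i j : GolayPt} (hi : i ≠ none) (hj : j ≠ none) (hij : i ≠ j) : ∃ e, s i e ≠ s j e := by
  have h1 := List.all_eq_true.1 (List.all_eq_true.1 sep_chk _ (List.mem_range.2 (idx_lt23 hi))) _
    (List.mem_range.2 (idx_lt23 hj))
  rw [Bool.or_eq_true] at h1
  rcases h1 with h1 | h1
  · exact absurd (idx_injective (Nat.eq_of_beq_eq_true h1)) hij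
  obtain ⟨m, hm, hne⟩ := List.any_eq_true.1 h1
  obtain ⟨e, he⟩ := LamCo2.mem_of_mem_masks hm
  refine ⟨e, fun h => ?_⟩
  have h2 := sgnC_injective h
  have h3 : ∀ p, ((e.toAdd : golayCode) : GolayPt → ZMod 2) p = word m p := fun p => congrFun he p
  rw [h3, h3, word_apply, word_apply] at h2
  revert hne h2
  cases m.testBit (idx i) <;> cases m.testBit (idx j) <;> simp

theorem sum_mul {i j : GolayPt} [Fintype (Multiplicative LamCo2.C2)] (hi : i ≠ none) (hj : j ≠ none) (hij : i ≠ j) :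
    ∑ e, s i e * s j e = 0 := sum_of_ne (exists_ne hi hj hij)

theorem s_zero (e : Multiplicative LamCo2.C2) : s (some 0) e = 1 := by
  unfold s
  have h : ((e.toAdd : golayCode) : GolayPt → ZMod 2) (some 0) = 0 := e.toAdd.2.2
  rw [h, sgnC_zero]

/-- The exterior square does not contain the trivial character of the group of sign changes. -/
theorem sum_W2 [Fintype (Multiplicative LamCo2.C2)] : ∑ e, W2 (LamCo2.sg e) = 0 := by
  have h1 : ∀ e, W2 (LamCo2.sg e) = ((Nat.factorial 2 : ℂ))⁻¹ *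
      ∑ i : Fin 2 → I, (if Function.Injective i then (1 : ℂ) else 0) * (s (i 0).1 e * s (i 1).1 e) := by
    intro e
    unfold W2
    rw [bH_sg, altk_diagonal]
    (with_reducible congr 1)
    refine Finset.sum_congr rfl fun i _ => ?_
    rw [Fin.prod_univ_two]
    rfl
  rw [Finset.sum_congr rfl fun e _ => h1 e, ← Finset.mul_sum, Finset.sum_comm, Finset.sum_eq_zero, mul_zero]
  intro i _
  rw [← Finset.mul_sum]
  by_cases hi : Function.Injective i
  · rw [sum_mul (i 0).2 (i 1).2, mul_zero]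
    intro h
    have h2 := hi (Subtype.ext h)
    exact absurd h2 (by decide)
  · rw [if_neg hi, zero_mul]

/-- The character of degree 23 contains the trivial character of the group of sign changes once. -/
theorem sum_mu {μ : IrrCharacter Spor.Co2}
    (hμ : ∀ g, lchi Cfsg.Agent.H419.Spor.Co2.inc g = 1 + (μ : Spor.Co2 → ℂ) g)
    [Fintype (Multiplicative LamCo2.C2)] : ∑ e, (μ : Spor.Co2 → ℂ) (LamCo2.sg e) = Fintype.card (Multiplicative LamCo2.C2) := by
  have h1 : ∀ e, (μ : Spor.Co2 → ℂ) (LamCo2.sg e) = ∑ i : I, s i.1 e := by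
    intro e
    rw [trace_bH hμ, bH_sg, Matrix.trace_diagonal]
    rfl
  rw [Finset.sum_congr rfl fun e _ => h1 e, Finset.sum_comm, Finset.sum_eq_single (⟨some 0, by simp⟩ : I)]
  · rw [Finset.sum_congr rfl fun e _ => s_zero e, Finset.sum_const, Finset.card_univ, nsmul_eq_mul, mul_one]
  · intro b _ hb
    have h2 := sum_mul (i := b.1) (j := some 0) b.2 (by simp) (fun h => hb (Subtype.ext h))
    rw [← h2]
    exact Finset.sum_congr rfl fun e _ => by rw [s_zero, mul_one]
  · intro h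
    exact absurd (Finset.mem_univ _) h

end

/-! ### the characters of degree 275 and 2277 -/

theorem mu_rat {μ : IrrCharacter Spor.Co2}
    (hμ : ∀ g, lchi Cfsg.Agent.H419.Spor.Co2.inc g = 1 + (μ : Spor.Co2 → ℂ) g) : Rat (μ : Spor.Co2 → ℂ) := by
  intro g
  rw [trace_bH hμ]
  have h : ∀ i, ∃ q : ℚ, bH g i i = q := fun i => bm_rat _ i i
  choose q hq using h
  refine ⟨∑ i, q i, ?_⟩
  rw [Matrix.trace]
  push_cast
  exact Finset.sum_congr rfl fun i _ => hq i

section

open MulAction Cfsg.Agent.SporadicStructure.Co2RankThree Cfsg.Agent.H133.PB Cfsg.Agent.H843.IMC.Co2B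
open Cfsg.Agent.H713.Spor.RankThree (pc inner_pc_one inner_pc_self pc_one inner_ne)

/-- The character of degree 2277 is rational (proof of `H843.IMC.Co2B.hasDeg_2277`). -/
theorem exists_2277 : ∃ χ : IrrCharacter Spor.Co2, charDegree (χ : Spor.Co2 → ℂ) = 2277 ∧
    Rat (χ : Spor.Co2 → ℂ) := by
  classical
  have := Fintype.ofFinite Spor.Co2
  have := Fintype.ofFinite Y
  have hne : Nonempty X := ⟨⟨y1, y1_mem_A⟩⟩
  have hne' : Nonempty Y := ⟨mk ⟨y1, y1_mem_A⟩⟩
  obtain ⟨χ₁, χ₂, h1, h2, h3⟩ := Cfsg.Agent.H843.IMC.Co2A.of_R3 Cfsg.Agent.H843.IMC.Co2A.card_co2 r3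
  obtain ⟨μ, hμ⟩ := Cfsg.Agent.H843.IMC.Co2A.exists_mu
  have hμ23 : charDegree (μ : Spor.Co2 → ℂ) = 23 := by
    obtain ⟨μ', h'⟩ := Cfsg.Agent.H843.IMC.Co2A.hasDeg_23
    have h4 := hμ 1
    have h6 : Cfsg.Agent.H419.LeechIrr.lchi Cfsg.Agent.H419.Spor.Co2.inc 1 = 24 := by
      rw [Cfsg.Agent.H419.LeechIrr.lchi, map_one, Cfsg.Agent.SigZeroCo2.Lin.tr8_one]
      norm_num
    rw [h6, Cfsg.Agent.Blocks.Basic.irr_one_eq_charDegree μ.2] at h4
    have : (24 : ℂ) = ((1 + charDegree (μ : Spor.Co2 → ℂ) : ℕ) : ℂ) := by rw [h4]; push_cast; ring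
    have h9 : 24 = 1 + charDegree (μ : Spor.Co2 → ℂ) := by exact_mod_cast this
    omega
  have ne_of_deg : ∀ {α β : IrrCharacter Spor.Co2}, charDegree (α : Spor.Co2 → ℂ) ≠ charDegree (β : Spor.Co2 → ℂ) →
      (α : Spor.Co2 → ℂ) ≠ β := by
    intro α β h hcon
    exact h (by rw [hcon])
  have hone : charDegree (1 : Spor.Co2 → ℂ) = 1 := by
    unfold charDegree
    simp
  have hμ1 : (μ : Spor.Co2 → ℂ) ≠ 1 := by
    intro h
    rw [h, hone] at hμ23
    omega
  have hχ1 : (χ₁ : Spor.Co2 → ℂ) ≠ 1 := by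
    intro h
    rw [h, hone] at h1
    omega
  have hχ2 : (χ₂ : Spor.Co2 → ℂ) ≠ 1 := by
    intro h
    rw [h, hone] at h2
    omega
  have h12 : (χ₁ : Spor.Co2 → ℂ) ≠ χ₂ := ne_of_deg (by rw [h1, h2]; norm_num)
  have h1μ : (χ₁ : Spor.Co2 → ℂ) ≠ μ := ne_of_deg (by rw [h1, hμ23]; norm_num)
  have h2μ : (χ₂ : Spor.Co2 → ℂ) ≠ μ := ne_of_deg (by rw [h2, hμ23]; norm_num)
  -- the permutation character of the pairs
  have hY : pc Spor.Co2 Y = 1 + (χ₁ : Spor.Co2 → ℂ) + (χ₂ : Spor.Co2 → ℂ) := by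
    funext g
    exact h3 g
  have hYY : classInner (pc Spor.Co2 Y) (pc Spor.Co2 Y) = 3 := by
    rw [hY]
    simp only [classInner_add_left, classInner_add_right]
    rw [classInner_irr_self isIrr_one, classInner_irr_self χ₁.2, classInner_irr_self χ₂.2,
      classInner_irr_ne isIrr_one χ₁.2 hχ1.symm, classInner_irr_ne isIrr_one χ₂.2 hχ2.symm,
      classInner_irr_ne χ₁.2 isIrr_one hχ1, classInner_irr_ne χ₂.2 isIrr_one hχ2,
      classInner_irr_ne χ₁.2 χ₂.2 h12, classInner_irr_ne χ₂.2 χ₁.2 h12.symm]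
    norm_num
  have hYμ : classInner (pc Spor.Co2 Y) (μ : Spor.Co2 → ℂ) = 0 := by
    rw [hY]
    simp only [classInner_add_left]
    rw [classInner_irr_ne isIrr_one μ.2 hμ1.symm, classInner_irr_ne χ₁.2 μ.2 h1μ, classInner_irr_ne χ₂.2 μ.2 h2μ]
    norm_num
  have hμY : classInner (μ : Spor.Co2 → ℂ) (pc Spor.Co2 Y) = 0 := by
    rw [← classInner_conj_symm, hYμ, map_zero]
  -- the numbers of orbits
  obtain ⟨N1, hN1⟩ : ∃ n : ℕ, n = Nat.card (Quotient (orbitRel Spor.Co2 (X × X))) := ⟨_, rfl⟩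
  obtain ⟨N2, hN2⟩ : ∃ n : ℕ, n = Nat.card (Quotient (orbitRel Spor.Co2 (X × Y))) := ⟨_, rfl⟩
  have hN1' : N1 ≤ 5 := by rw [hN1]; exact _root_.Cfsg.Agent.H843.IMC.Co2B.rank_le
  have hN3 : Nat.card (Quotient (orbitRel Spor.Co2 (Y × Y))) = 3 := by
    have h4 := inner_pc_self (G := Spor.Co2) Y
    rw [hYY] at h4
    exact_mod_cast h4.symm
  have hN2' : 3 ≤ N2 := by rw [hN2, ← hN3]; exact rank_mono
  have hXX : classInner (pc Spor.Co2 X) (pc Spor.Co2 X) = N1 := by rw [hN1]; exact inner_pc_self X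
  have hXY : classInner (pc Spor.Co2 X) (pc Spor.Co2 Y) = N2 := by rw [hN2]; exact inner_pc_pc X Y
  have hYX : classInner (pc Spor.Co2 Y) (pc Spor.Co2 X) = N2 := by
    rw [← classInner_conj_symm, hXY, Complex.conj_natCast]
  -- the character of degree 23
  have hXμ : classInner (pc Spor.Co2 X) (μ : Spor.Co2 → ℂ) ≠ 0 := by
    refine inner_ne Cfsg.Agent.H419.Spor.Co2.inc μ hμ1 (d := 1) (fun g => by rw [hμ g]; norm_num) X
      (fun x => Cfsg.Agent.H419.Spor.Co2.c • x.1) ?_ ?_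
    · intro γ x
      show Cfsg.Agent.H419.Spor.Co2.c • (toCo0 γ • x.1) =
        (Cfsg.Agent.H419.Spor.Co2.c * toCo0 γ * Cfsg.Agent.H419.Spor.Co2.c⁻¹) • Cfsg.Agent.H419.Spor.Co2.c • x.1
      rw [mul_smul, mul_smul, inv_smul_smul]
    · intro x
      obtain ⟨γ, hγ⟩ := exists_smul x (op x)
      refine ⟨γ, fun hcon => op_ne x ?_⟩
      rw [← hγ]
      apply Subtype.ext
      have h4 : Cfsg.Agent.H419.Spor.Co2.inc γ • Cfsg.Agent.H419.Spor.Co2.c • x.1 =
          Cfsg.Agent.H419.Spor.Co2.c • (toCo0 γ • x.1) := by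
        show (Cfsg.Agent.H419.Spor.Co2.c * toCo0 γ * Cfsg.Agent.H419.Spor.Co2.c⁻¹) • Cfsg.Agent.H419.Spor.Co2.c • x.1 = _
        rw [mul_smul, mul_smul, inv_smul_smul]
      rw [h4] at hcon
      exact MulAction.injective Cfsg.Agent.H419.Spor.Co2.c hcon
  obtain ⟨m, hm⟩ := classInner_isNat (Cfsg.Agent.S0157.isCharacter_fixedBy (G := Spor.Co2) X) (isIrr_isCharacter μ.2)
  change classInner (pc Spor.Co2 X) μ = m at hm
  have hm0 : m ≠ 0 := by
    rintro rfl
    exact hXμ (by rw [hm]; norm_num)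
  have hm' : classInner (μ : Spor.Co2 → ℂ) (pc Spor.Co2 X) = m := by
    rw [← classInner_conj_symm, hm, Complex.conj_natCast]
  -- the difference
  set! ψ : Spor.Co2 → ℂ := pc Spor.Co2 X - (pc Spor.Co2 Y + (μ : Spor.Co2 → ℂ)) with hψ
  have hgen : IsGeneralizedCharacter Spor.Co2 ψ := by
    rw [isGeneralizedCharacter_def]
    exact ⟨_, _, Cfsg.Agent.S0157.isCharacter_fixedBy X,
      isCharacter_add (Cfsg.Agent.S0157.isCharacter_fixedBy Y) (isIrr_isCharacter μ.2), rfl⟩
  have hval : ψ 1 = 2277 := by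
    rw [hψ, Pi.sub_apply, Pi.add_apply, pc_one, pc_one, card_X, card_Y,
      Cfsg.Agent.Blocks.Basic.irr_one_eq_charDegree μ.2, hμ23]
    norm_num
  have hnorm : classInner ψ ψ = (((N1 : ℤ) - 2 * N2 + 4 - 2 * m : ℤ) : ℂ) := by
    rw [hψ]
    simp only [classInner_sub_left, classInner_sub_right, classInner_add_left, classInner_add_right]
    rw [hXX, hXY, hYX, hYY, hm, hm', hYμ, hμY, classInner_irr_self μ.2]
    push_cast
    ring
  have hpos : ψ ≠ 0 := by
    intro h
    rw [h, Pi.zero_apply] at hval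
    norm_num at hval
  have hnonneg : 0 < (N1 : ℤ) - 2 * N2 + 4 - 2 * m := by
    have h4 := classInner_self_eq_ofReal ψ
    rw [hnorm] at h4
    have h5 : (((N1 : ℤ) - 2 * N2 + 4 - 2 * m : ℤ) : ℝ) =
        (Nat.card Spor.Co2 : ℝ)⁻¹ * ∑ g : Spor.Co2, Complex.normSq (ψ g) := by exact_mod_cast h4
    have h6 : (0 : ℝ) ≤ (((N1 : ℤ) - 2 * N2 + 4 - 2 * m : ℤ) : ℝ) := by
      rw [h5]
      exact mul_nonneg (by (clear * -; positivity)) (Finset.sum_nonneg fun _ _ => Complex.normSq_nonneg _)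
    have h7 : (0 : ℤ) ≤ (N1 : ℤ) - 2 * N2 + 4 - 2 * m := by exact_mod_cast h6
    refine lt_of_le_of_ne h7 fun h8 => hpos ?_
    apply classInner_self_eq_zero
    rw [hnorm, ← h8]
    norm_num
  have hone' : (N1 : ℤ) - 2 * N2 + 4 - 2 * m = 1 := by omega
  rw [hone'] at hnorm
  rcases isIrr_of_generalized hgen (by rw [hnorm]; norm_num) with h | h
  · refine ⟨⟨ψ, h⟩, Cfsg.Agent.H670.PSing.charDegree_eq_of (by show ψ 1 = _; rw [hval]; norm_num), fun g => ?_⟩
    obtain ⟨q, hq⟩ := mu_rat hμ g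
    refine ⟨(Nat.card (fixedBy X g) : ℚ) - ((Nat.card (fixedBy Y g) : ℚ) + q), ?_⟩
    show ψ g = _
    rw [hψ, Pi.sub_apply, Pi.add_apply, hq]
    push_cast
    rfl
  · exfalso
    obtain ⟨n, hn, hn'⟩ := isIrr_apply_one h
    rw [Pi.neg_apply, hval] at hn'
    have h4 : ((n : ℤ) : ℂ) + ((2277 : ℤ) : ℂ) = 0 := by
      push_cast
      rw [← hn']
      ring
    have h5 : (n : ℤ) + 2277 = 0 := by exact_mod_cast h4
    omega

theorem exists_275 : ∃ χ : Spor.Co2 → ℂ, H601.K4.Good χ ∧ charDegree χ = 275 := by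
  classical
  have := Fintype.ofFinite Y
  have := Fintype.ofFinite Spor.Co2
  obtain ⟨χ₁, χ₂, h1, h2, h3⟩ := Cfsg.Agent.H843.IMC.Co2A.of_R3 Cfsg.Agent.H843.IMC.Co2A.card_co2 r3
  have hΨ : IsCharacter Spor.Co2 ((χ₁ : Spor.Co2 → ℂ) + (χ₂ : Spor.Co2 → ℂ)) :=
    isCharacter_add (isIrr_isCharacter χ₁.2) (isIrr_isCharacter χ₂.2)
  obtain ⟨χ, hg, -, m, hm, hm'⟩ := H740.K4.exists_good_of_rat hΨ (n := 2299) (by
      rw [Pi.add_apply, Cfsg.Agent.Blocks.Basic.irr_one_eq_charDegree χ₁.2,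
        Cfsg.Agent.Blocks.Basic.irr_one_eq_charDegree χ₂.2, h1, h2]
      norm_num) (by decide) (fun g => ⟨(Nat.card (fixedBy Y g) : ℚ) - 1, by
      have h4 := h3 g
      rw [Pi.add_apply]
      push_cast
      linear_combination -h4⟩)
  rw [classInner_add_left] at hm'
  by_cases e1 : (χ₁ : Spor.Co2 → ℂ) = χ
  · exfalso
    apply hg.odd.2
    rw [← e1, h1]
    norm_num
  by_cases e2 : (χ₂ : Spor.Co2 → ℂ) = χ
  · exact ⟨χ, hg, by rw [← e2, h2]⟩
  · exfalso
    rw [classInner_irr_ne χ₁.2 hg.odd.1 e1, classInner_irr_ne χ₂.2 hg.odd.1 e2, add_zero] at hm'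
    have h4 : m = 0 := by exact_mod_cast hm'.symm
    rw [h4] at hm
    exact absurd hm (by decide)

end

/-! ### conclusion -/

theorem charDegree_one' : charDegree (fun _ : Spor.Co2 => (1 : ℂ)) = 1 := by
  unfold charDegree
  simp

/-- **Five good characters of `Co2`.** -/
theorem good5_model : H601.K4.Good5 Spor.Co2 := by
  classical
  have := Fintype.ofFinite Spor.Co2
  have := Fintype.ofFinite (Multiplicative LamCo2.C2)
  obtain ⟨μ, hμ⟩ := Cfsg.Agent.H843.IMC.Co2A.exists_mu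
  have hμd : charDegree (μ : Spor.Co2 → ℂ) = 23 := Cfsg.Agent.H769.PB.RowCoTwo.deg_mu hμ
  have gμ : H601.K4.Good (μ : Spor.Co2 → ℂ) := H740.K4.good_of_rat μ.2 (mu_rat hμ) (by rw [hμd]; decide)
  obtain ⟨α, gα, hα⟩ := exists_275
  obtain ⟨β, hβ, rβ⟩ := exists_2277
  have gβ : H601.K4.Good (β : Spor.Co2 → ℂ) := H740.K4.good_of_rat β.2 rβ (by rw [hβ]; decide)
  obtain ⟨ψ, gψ, -, m, hm, hψ⟩ := H740.K4.exists_good_of_rat isCharacter_W2 W2_one (by decide) W2_rat
  have hm0 : m ≠ 0 := by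
    rintro rfl
    exact absurd hm (by decide)
  have hne : classInner W2 ψ ≠ 0 := by
    rw [hψ]
    exact_mod_cast hm0
  -- the degree
  have hdeg : charDegree ψ ≤ 253 := degree_le isCharacter_W2 W2_one gψ.odd.1 hne
  -- the group of sign changes
  have hsum := sum_eq_zero_of_constituent LamCo2.sg isCharacter_W2 sum_W2 ⟨ψ, gψ.odd.1⟩ hne
  have hcard : (Fintype.card (Multiplicative LamCo2.C2) : ℂ) ≠ 0 := by exact_mod_cast Fintype.card_ne_zero
  have h1ψ : (fun _ : Spor.Co2 => (1 : ℂ)) ≠ ψ := by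
    rintro rfl
    apply hcard
    rw [← hsum]
    simp
  have hμψ : (μ : Spor.Co2 → ℂ) ≠ ψ := by
    intro h
    apply hcard
    rw [← hsum, ← sum_mu hμ, h]
  have key : ∀ {a b : Spor.Co2 → ℂ}, charDegree a ≠ charDegree b → a ≠ b := fun h h' => h (by rw [h'])
  refine H740.K4.good5_of H740.K4.good_one' gμ gα gβ gψ (key ?_) (key ?_) (key ?_) h1ψ (key ?_) (key ?_) hμψ (key ?_)
    (key ?_) (key ?_)
  · rw [charDegree_one', hμd]; decide
  · rw [charDegree_one', hα]; decide
  · rw [charDegree_one', hβ]; decide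
  · rw [hμd, hα]; decide
  · rw [hμd, hβ]; decide
  · rw [hα, hβ]; decide
  · rw [hα]; omega
  · rw [hβ]; omega

theorem good5_co2 {S : Type u} [Group S] (h : Spor.IsoCo2 S) : H601.K4.Good5 S := by
  obtain ⟨e⟩ := h
  have : Finite S := Finite.of_equiv _ e.symm.toEquiv
  exact H740.K4.good5_of_equiv e good5_model

end Cfsg.Agent.H345.K4.Co2
end
end
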