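import Cfsg.Agent.H618.Sigma
import Cfsg.Agent.Blocks.Basic
import Cfsg.Agent.Characters.Core
import Cfsg.Agent.Characters.GaloisIrr
import Cfsg.Agent.Blocks.Central
import Cfsg.Agent.Blocks.OrbitSum
import Cfsg.Agent.Prune
set_option linter.all false

section
prune_inst 0x7f00000000000000000000000000000000000000000000000000000000000000000000000000000000000000000000000000000000000000000000000000000000000000000000000000000000000000003fffffffffffffffffffffffffffbeffbdffffffff

-- part: H740/K4/Basic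
section
set_option linter.all false
open scoped Cfsg.Agent.FastGrp

/-!
# Real characters of odd degree fixed by the cubing automorphism (helper740)

`Good k χ` : `χ` is real valued, of odd degree, and `χ (g ^ k) = χ g`.

* `Good.of_rat` : a rational valued irreducible character of odd degree is good.
* `exists_good` : a character of odd degree with real values, fixed by `g ↦ g ^ k`, contains a good
  irreducible character with odd multiplicity.
* `five` : five different good irreducible characters.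
-/

set_option autoImplicit false

open scoped ComplexConjugate
open Cfsg Cfsg.Agent.Characters.Core Cfsg.Agent.H618.Sigma

namespace Cfsg.Agent.H740.K4

universe u

variable {G : Type u} [Group G] {k : ℕ}

/-- real valued, of odd degree, fixed by the cubing automorphism -/
def Good (k : ℕ) (χ : G → ℂ) : Prop :=
  (∀ g : G, (χ g).im = 0) ∧ Odd (charDegree χ) ∧ ∀ g : G, χ (g ^ k) = χ g

theorem conj_eq_of_im {z : ℂ} (h : z.im = 0) : conj z = z := Complex.conj_eq_iff_im.2 h

/-- A rational valued irreducible character of odd degree. -/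
theorem Good.of_rat [Finite G] (h : Cube G k) {χ : G → ℂ} (hχ : IsIrrCharacter G χ)
    (hq : ∀ g : G, ∃ q : ℚ, χ g = q) (hodd : Odd (charDegree χ)) : Good k χ := by
  refine ⟨fun g => ?_, hodd, fun g => ?_⟩
  · obtain ⟨q, hq⟩ := hq g
    rw [hq]
    exact Complex.ratCast_im q
  · obtain ⟨σ, hσ⟩ := Cfsg.Agent.Characters.GaloisBasic.exists_ringEquiv_of_coprime h.coprime
    obtain ⟨q, hq⟩ := hq g
    rw [← hσ χ (isIrr_isCharacter hχ) g, hq, map_ratCast]

theorem good_one [Finite G] (h : Cube G k) : Good k (fun _ : G => (1 : ℂ)) := by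
  refine Good.of_rat h Cfsg.Agent.Blocks.Basic.isIrrCharacter_one (fun g => ⟨1, by simp⟩) ?_
  have h1 : charDegree (fun _ : G => (1 : ℂ)) = 1 := by
    apply Cfsg.Agent.Blocks.Basic.charDegree_of_eq
    simp
  rw [h1]
  exact odd_one

section mult

variable [Fintype G]

/-- The multiplicity. -/
noncomputable def mul (Ψ : G → ℂ) (χ : IrrCharacter G) : ℕ :=
  open Classical in if h : ∃ n : ℕ, classInner Ψ χ = n then h.choose else 0

theorem mul_spec {Ψ : G → ℂ} (hΨ : IsCharacter G Ψ) (χ : IrrCharacter G) :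
    classInner Ψ (χ : G → ℂ) = mul Ψ χ := by
  have h : ∃ n : ℕ, classInner Ψ (χ : G → ℂ) = n := classInner_isNat hΨ (isIrr_isCharacter χ.2)
  unfold mul
  rw [dif_pos h]
  exact h.choose_spec

theorem eq_sum {Ψ : G → ℂ} (hΨ : IsCharacter G Ψ) [Fintype (IrrCharacter G)] :
    Ψ = ∑ χ : IrrCharacter G, (mul Ψ χ) • (χ : G → ℂ) := by
  obtain ⟨n, rfl⟩ := exists_nat_comb hΨ
  refine Finset.sum_congr rfl fun χ _ => ?_
  have h2 := mul_spec hΨ χ
  rw [classInner_sum_nsmul_irr] at h2
  have h3 : n χ = mul (∑ χ : IrrCharacter G, n χ • (χ : G → ℂ)) χ := by exact_mod_cast h2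
  rw [← h3]

theorem bij_pow (h : Cube G k) : Function.Bijective (fun g : G => g ^ k) := by
  have h1 : Function.Injective (fun g : G => g ^ k) := by
    obtain ⟨n, hn⟩ := h.exists_iter
    intro a b hab
    have hab' : a ^ k = b ^ k := hab
    rw [← hn a, ← hn b]
    have h2 : 1 ≤ 2 ^ n := Nat.one_le_two_pow
    have h3 : k ^ (2 ^ n) = k * k ^ (2 ^ n - 1) := by
      rw [← pow_succ', Nat.sub_add_cancel h2]
    rw [h3, pow_mul, pow_mul, hab']
  exact Finite.injective_iff_bijective.1 h1

theorem mul_sig (h : Cube G k) {Ψ : G → ℂ} (hs : ∀ g, Ψ (g ^ k) = Ψ g) (χ : IrrCharacter G) :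
    classInner Ψ (sig h χ : G → ℂ) = classInner Ψ (χ : G → ℂ) := by
  rw [classInner_def, classInner_def]
  congr 1
  have h1 := (bij_pow h).sum_comp (fun g : G => Ψ g * conj ((χ : G → ℂ) g))
  rw [← h1]
  refine Finset.sum_congr rfl fun g _ => ?_
  rw [sig_apply, hs]

/-- complex conjugation of irreducible characters -/
noncomputable def cj (χ : IrrCharacter G) : IrrCharacter G :=
  ⟨fun g => conj ((χ : G → ℂ) g), isIrr_conj χ.2⟩

theorem cj_apply (χ : IrrCharacter G) (g : G) : (cj χ : G → ℂ) g = conj ((χ : G → ℂ) g) := rfl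

theorem cj_cj (χ : IrrCharacter G) : cj (cj χ) = χ := by
  apply Subtype.ext
  funext g
  rw [cj_apply, cj_apply, Complex.conj_conj]

theorem charDegree_cj (χ : IrrCharacter G) : charDegree (cj χ : G → ℂ) = charDegree (χ : G → ℂ) := by
  apply Cfsg.Agent.Blocks.Basic.charDegree_of_eq
  rw [cj_apply, Cfsg.Agent.Blocks.Basic.irr_one_eq_charDegree χ.2]
  simp

theorem cj_eq_iff (χ : IrrCharacter G) : cj χ = χ ↔ ∀ g : G, ((χ : G → ℂ) g).im = 0 := by
  constructor
  · intro e g
    have h1 : (cj χ : G → ℂ) g = (χ : G → ℂ) g := by rw [e]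
    rw [cj_apply] at h1
    exact Complex.conj_eq_iff_im.1 h1
  · intro h1
    apply Subtype.ext
    funext g
    rw [cj_apply]
    exact conj_eq_of_im (h1 g)

theorem mul_cj {Ψ : G → ℂ} (hr : ∀ g, (Ψ g).im = 0) (χ : IrrCharacter G) :
    classInner Ψ (cj χ : G → ℂ) = conj (classInner Ψ (χ : G → ℂ)) := by
  rw [classInner_def, classInner_def, map_mul, map_sum]
  congr 1
  · simp
  refine Finset.sum_congr rfl fun g _ => ?_
  rw [cj_apply, map_mul, conj_eq_of_im (hr g)]

theorem sig_cj (h : Cube G k) (χ : IrrCharacter G) : sig h (cj χ) = cj (sig h χ) := by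
  apply Subtype.ext
  funext g
  rw [sig_apply, cj_apply, cj_apply, sig_apply]

end mult

/-- **A real character of odd degree fixed by the cubing automorphism has a good constituent.** -/
theorem exists_good [Fintype G] (h : Cube G k) {Ψ : G → ℂ} (hΨ : IsCharacter G Ψ) {n : ℕ} (hn : Ψ 1 = n)
    (hodd : Odd n) (hr : ∀ g, (Ψ g).im = 0) (hs : ∀ g, Ψ (g ^ k) = Ψ g) :
    ∃ χ : IrrCharacter G, Good k (χ : G → ℂ) ∧ Odd (mul Ψ χ) := by
  classical
  have : Finite (IrrCharacter G) := finite_irr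
  have := Fintype.ofFinite (IrrCharacter G)
  -- the set of the odd constituents of odd multiplicity
  let O := {χ : IrrCharacter G // Odd (mul Ψ χ) ∧ Odd (charDegree (χ : G → ℂ))}
  have hcard : Odd (Nat.card O) := by
    have h1 : (n : ℕ) = ∑ χ : IrrCharacter G, mul Ψ χ * charDegree (χ : G → ℂ) := by
      have h2 := congrFun (eq_sum hΨ) 1
      rw [Finset.sum_apply, hn] at h2
      have h3 : ∀ χ : IrrCharacter G, (mul Ψ χ • (χ : G → ℂ)) 1 = ((mul Ψ χ * charDegree (χ : G → ℂ) : ℕ) : ℂ) := by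
        intro χ
        rw [Pi.smul_apply, Cfsg.Agent.Blocks.Basic.irr_one_eq_charDegree χ.2, nsmul_eq_mul, Nat.cast_mul]
      rw [Finset.sum_congr rfl fun χ _ => h3 χ] at h2
      exact_mod_cast h2
    have h2 : Nat.card O = (Finset.univ.filter fun χ : IrrCharacter G =>
        Odd (mul Ψ χ) ∧ Odd (charDegree (χ : G → ℂ))).card := by
      rw [Nat.card_eq_fintype_card, Fintype.card_subtype]
    have h3 : Odd (∑ χ : IrrCharacter G, mul Ψ χ * charDegree (χ : G → ℂ)) := h1 ▸ hodd
    rw [Finset.odd_sum_iff_odd_card_odd] at h3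
    rw [h2]
    have h4 : (Finset.univ.filter fun χ : IrrCharacter G =>
        Odd (mul Ψ χ) ∧ Odd (charDegree (χ : G → ℂ))) =
        (Finset.univ.filter fun χ : IrrCharacter G => Odd (mul Ψ χ * charDegree (χ : G → ℂ))) := by
      ext χ
      simp only [Finset.mem_filter, Finset.mem_univ, true_and, Nat.odd_mul]
    rw [h4]
    exact h3
  -- the cubing automorphism
  have hm1 : ∀ χ, mul Ψ (sig h χ) = mul Ψ χ := by
    intro χ
    have h1 := mul_sig h hs χ
    rw [mul_spec hΨ, mul_spec hΨ] at h1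
    exact_mod_cast h1
  have hm2 : ∀ χ, mul Ψ (cj χ) = mul Ψ χ := by
    intro χ
    have h1 := mul_cj hr χ
    rw [mul_spec hΨ, mul_spec hΨ] at h1
    rw [Complex.conj_natCast] at h1
    exact_mod_cast h1
  obtain ⟨N, hN⟩ := h.exists_iter
  let s1 : O → O := fun χ => ⟨sig h χ.1, by rw [hm1]; exact χ.2.1, by rw [charDegree_sig]; exact χ.2.2⟩
  have hs1 : ∀ (m : ℕ) (χ : O), ((s1)^[m] χ).1 = (sig h)^[m] χ.1 := by
    intro m
    induction m with
    | zero => intro χ; rfl
    | succ m ih => intro χ; rw [Function.iterate_succ_apply, Function.iterate_succ_apply, ih]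
  have hs1' : ∀ χ : O, (s1)^[2 ^ N] χ = χ := by
    intro χ
    apply Subtype.ext
    apply Subtype.ext
    funext g
    rw [hs1, sig_iter, hN]
  have c1 := card_fixed_perm s1 N hs1'
  let O2 := {χ : O // s1 χ = χ}
  let s2 : O2 → O2 := fun χ => ⟨⟨cj χ.1.1, by rw [hm2]; exact χ.1.2.1, by rw [charDegree_cj]; exact χ.1.2.2⟩, by
    apply Subtype.ext
    show sig h (cj χ.1.1) = cj χ.1.1
    rw [sig_cj]
    have := congrArg Subtype.val χ.2
    exact congrArg cj this⟩
  have hs2' : ∀ χ : O2, (s2)^[2 ^ 1] χ = χ := by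
    intro χ
    apply Subtype.ext
    apply Subtype.ext
    show cj (cj χ.1.1) = χ.1.1
    exact cj_cj _
  have c2 := card_fixed_perm s2 1 hs2'
  have hodd2 : Nat.card {χ : O2 // s2 χ = χ} % 2 = 1 := by
    have e1 : Nat.card O % 2 = 1 := Nat.odd_iff.1 hcard
    have e2 : Nat.card O % 2 = Nat.card O2 % 2 := c1
    have e3 : Nat.card O2 % 2 = Nat.card {χ : O2 // s2 χ = χ} % 2 := c2
    omega
  have hne : Nonempty {χ : O2 // s2 χ = χ} := by
    by_contra hcon
    rw [not_nonempty_iff] at hcon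
    rw [Nat.card_of_isEmpty] at hodd2
    omega
  obtain ⟨⟨χ, h1⟩, h2⟩ := hne
  refine ⟨χ.1, ⟨?_, χ.2.2, ?_⟩, χ.2.1⟩
  · rw [← cj_eq_iff]
    exact congrArg (fun x : O2 => x.1.1) h2
  · rw [← sig_eq_iff h]
    exact congrArg Subtype.val h1

end Cfsg.Agent.H740.K4
end

-- part: H345/K4/CentArg
section
set_option linter.all false
open scoped Cfsg.Agent.FastGrp

/-!
# Central characters and an element of prime order (helper345, for S4947 and S4547)

`x` an element of prime order `p`, `z₁, z₂, z₃` the conjugates of `z₁` in the centralizer of `x`, a four-group: for an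
irreducible `χ` let `s` be the residue of `χ x` and `F` the residue of `χ (z₁ x) + χ (z₂ x) + χ (z₃ x)`. Then
`(F - 3 s) (F + s) = 0`.
-/

set_option autoImplicit false

namespace Cfsg.Agent.H345.K4.CentArg

open Cfsg Cfsg.Agent.Characters.Core Cfsg.Agent.Blocks.Local

universe u

variable {G : Type u} [Group G]

theorem sum_class [Fintype G] {χ : G → ℂ} (hχ : IsIrrCharacter G χ) (z g : G) :
    ∑ c : G, (open Classical in if IsConj z c then χ (c * g) else 0) = centralChar χ z * χ g := by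
  classical
  have h1 := Blocks.Central.chExt_mul hχ (Blocks.Central.classSum_mem_center (k := ℂ) z) (MonoidAlgebra.single g 1)
  rw [Blocks.Central.omegaL_classSum (isIrr_isClassFunction hχ), Blocks.Central.chExt_single, one_mul] at h1
  rw [← h1, Blocks.Central.chExt_apply]
  have h2 := Equiv.sum_comp (Equiv.mulRight g) (fun c : G =>
    (Blocks.Central.classSum ℂ z * MonoidAlgebra.single g 1).coeff c * χ c)
  rw [← h2]
  refine Finset.sum_congr rfl fun c _ => ?_
  rw [Equiv.coe_mulRight, MonoidAlgebra.coeff_mul_single_apply, mul_inv_cancel_right, mul_one,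
    Blocks.Central.coeff_classSum]
  split_ifs <;> simp

variable [Finite G] {p : ℕ} {M : Ideal AlgInt}

theorem mem_irr [M.IsPrime] {χ : G → ℂ} (hχ : IsIrrCharacter G χ) (g : G) : MemLocalRing M (χ g) :=
  memLocalRing_of_isIntegral (Cfsg.Agent.CharactersDeep.ModCongr.isIntegral_irr hχ g)

theorem cong [Fact p.Prime] [M.IsPrime] (hM : IsPModular p M) {χ : G → ℂ} (hχ : IsIrrCharacter G χ) {z x g : G}
    (hx : orderOf x = p) (hg : x * g = g * x) (T : Finset G) (hT : ∀ c, c ∈ T ↔ IsConj z c ∧ c * x = x * c) :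
    redC M (centralChar χ z) * redC M (χ g) = ∑ c ∈ T, redC M (χ (c * g)) := by
  classical

  have := Fintype.ofFinite G
  have hω : MemLocalRing M (centralChar χ z) :=
    memLocalRing_of_isIntegral (Blocks.Central.isIntegral_centralChar hχ z)
  rw [← redC_mul hω (mem_irr hχ g), ← sum_class hχ, ← redC_sum (fun c _ => mem_irr hχ _)]
  -- the values in the ring of algebraic integers
  let f : G → AlgInt := fun c => if IsConj z c then ⟨χ (c * g), Cfsg.Agent.CharactersDeep.ModCongr.isIntegral_irr hχ _⟩ else 0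
  have hf : ∀ c, ((f c : AlgInt) : ℂ) = if IsConj z c then χ (c * g) else 0 := by
    intro c
    show ((if IsConj z c then (⟨χ (c * g), _⟩ : AlgInt) else 0 : AlgInt) : ℂ) = _
    split_ifs <;> rfl
  have hxp : IsPGroup p (Subgroup.zpowers x) := by
    refine IsPGroup.of_card (n := 1) ?_
    rw [Nat.card_zpowers, hx, pow_one]
  obtain ⟨a, ha⟩ := Blocks.OrbitSum.sum_eq_sum_centralizer_add_smul (Subgroup.zpowers x) hxp f (by
    intro u hu c
    have hug : u * g = g * u := by
      obtain ⟨k, rfl⟩ := Subgroup.mem_zpowers_iff.1 hu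
      exact ((show Commute x g from hg).zpow_left k)
    show (if IsConj z (u * c * u⁻¹) then (⟨χ (u * c * u⁻¹ * g), _⟩ : AlgInt) else 0) = _
    have h1 : IsConj z (u * c * u⁻¹) ↔ IsConj z c :=
      ⟨fun H => H.trans (isConj_iff.2 ⟨u, rfl⟩ : IsConj c (u * c * u⁻¹)).symm,
        fun H => H.trans (isConj_iff.2 ⟨u, rfl⟩)⟩
    have h2 : χ (u * c * u⁻¹ * g) = χ (c * g) := by
      have h3 : u * c * u⁻¹ * g = u * (c * g) * u⁻¹ := by
        have h4 : u⁻¹ * g = g * u⁻¹ := by
          rw [inv_mul_eq_iff_eq_mul, ← mul_assoc, hug, mul_inv_cancel_right]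
        rw [mul_assoc (u * c), h4]
        simp only [mul_assoc]
      rw [h3]
      exact isIrr_isClassFunction hχ _ _
    by_cases h : IsConj z c
    · rw [if_pos (h1.2 h)]
      show _ = (if IsConj z c then (⟨χ (c * g), _⟩ : AlgInt) else 0)
      rw [if_pos h]
      exact Subtype.ext h2
    · rw [if_neg (fun h' => h (h1.1 h'))]
      show _ = (if IsConj z c then (⟨χ (c * g), _⟩ : AlgInt) else 0)
      rw [if_neg h])
  have h3 : ∑ c : G, (if IsConj z c then χ (c * g) else 0) = ∑ c ∈ T, χ (c * g) + (p : ℂ) * (a : ℂ) := by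
    have h4 := congrArg (fun y : AlgInt => (y : ℂ)) ha
    simp only [AddMemClass.coe_add, AddSubmonoidClass.coe_finsetSum, nsmul_eq_mul] at h4
    rw [Finset.sum_congr rfl fun c _ => hf c] at h4
    rw [h4]
    congr 1
    rw [Finset.sum_congr rfl fun c _ => hf c, ← Finset.sum_filter, Finset.filter_filter]
    refine Finset.sum_congr ?_ fun _ _ => rfl
    ext c
    rw [Finset.mem_filter, hT, Subgroup.mem_centralizer_iff]
    refine ⟨fun h => ⟨h.2.2, ?_⟩, fun h => ⟨Finset.mem_univ _, ?_, h.1⟩⟩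
    · exact (h.2.1 x (Subgroup.mem_zpowers x)).symm
    · intro u hu
      obtain ⟨k, rfl⟩ := Subgroup.mem_zpowers_iff.1 hu
      exact ((show Commute c x from h.2).zpow_right k).symm
  rw [h3, redC_add (memLocalRing_sum fun c _ => mem_irr hχ _)
    (memLocalRing_mul (memLocalRing_natCast p) (memLocalRing_algInt a)),
    redC_mul (memLocalRing_natCast p) (memLocalRing_algInt a), redC_natCast]
  have hchar := charP_resField hM
  rw [CharP.cast_eq_zero, zero_mul, add_zero, redC_sum (fun c _ => mem_irr hχ _)]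

/-- **The quadratic relation.** -/
theorem quad [Fact p.Prime] [M.IsPrime] (hM : IsPModular p M) {χ : G → ℂ} (hχ : IsIrrCharacter G χ)
    {x z₁ z₂ z₃ : G} (hx : orderOf x = p) (h11 : z₁ * z₁ = 1) (h22 : z₂ * z₂ = 1) (h33 : z₃ * z₃ = 1)
    (h12 : z₁ * z₂ = z₃) (h21 : z₂ * z₁ = z₃) (hne : z₁ ≠ z₂) (hz1 : z₁ ≠ 1) (hz2 : z₂ ≠ 1)
    (c1 : z₁ * x = x * z₁) (c2 : z₂ * x = x * z₂)
    (k2 : IsConj z₁ z₂) (k3 : IsConj z₁ z₃)
    (hT : ∀ c : G, IsConj z₁ c → c * x = x * c → c = z₁ ∨ c = z₂ ∨ c = z₃) :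
    (redC M (χ (z₁ * x)) + redC M (χ (z₂ * x)) + redC M (χ (z₃ * x)) - 3 * redC M (χ x)) *
      (redC M (χ (z₁ * x)) + redC M (χ (z₂ * x)) + redC M (χ (z₃ * x)) + redC M (χ x)) = 0 := by
  classical
  have c3 : z₃ * x = x * z₃ := by rw [← h12, mul_assoc, c2, ← mul_assoc, c1, mul_assoc]
  have h13 : z₁ * z₃ = z₂ := by rw [← h12, ← mul_assoc, h11, one_mul]
  have h31 : z₃ * z₁ = z₂ := by rw [← h21, mul_assoc, h11, mul_one]
  have h23 : z₂ * z₃ = z₁ := by rw [← h21, ← mul_assoc, h22, one_mul]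
  have h32 : z₃ * z₂ = z₁ := by rw [← h12, mul_assoc, h22, mul_one]
  have n13 : z₁ ≠ z₃ := by
    intro h
    apply hz2
    have : z₁ * z₂ = z₁ * 1 := by rw [h12, mul_one, h]
    exact mul_left_cancel this
  have n23 : z₂ ≠ z₃ := by
    intro h
    apply hz1
    have : z₂ * z₁ = z₂ * 1 := by rw [h21, mul_one, h]
    exact mul_left_cancel this
  have hTs : ∀ c, c ∈ ({z₁, z₂, z₃} : Finset G) ↔ IsConj z₁ c ∧ c * x = x * c := by
    intro c
    simp only [Finset.mem_insert, Finset.mem_singleton]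
    constructor
    · rintro (rfl | rfl | rfl)
      · exact ⟨IsConj.refl _, c1⟩
      · exact ⟨k2, c2⟩
      · exact ⟨k3, c3⟩
    · rintro ⟨h1, h2⟩
      exact hT c h1 h2
  have key : ∀ g : G, x * g = g * x → redC M (centralChar χ z₁) * redC M (χ g) =
      redC M (χ (z₁ * g)) + redC M (χ (z₂ * g)) + redC M (χ (z₃ * g)) := by
    intro g hg
    rw [cong hM hχ hx hg _ hTs, Finset.sum_insert, Finset.sum_insert, Finset.sum_singleton, add_assoc]
    · simp [n23]
    · simp [hne, n13]
  have e0 := key x rfl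
  have e1 := key (z₁ * x) (by rw [← mul_assoc, ← c1])
  have e2 := key (z₂ * x) (by rw [← mul_assoc, ← c2])
  have e3 := key (z₃ * x) (by rw [← mul_assoc, ← c3])
  simp only [← mul_assoc, h11, h22, h33, h12, h21, h13, h31, h23, h32, one_mul] at e1 e2 e3
  set ω := redC M (centralChar χ z₁)
  set s := redC M (χ x)
  set f1 := redC M (χ (z₁ * x))
  set f2 := redC M (χ (z₂ * x))
  set f3 := redC M (χ (z₃ * x))
  linear_combination s * (e1 + e2 + e3) - (f1 + f2 + f3) * e0

end Cfsg.Agent.H345.K4.CentArg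
end
end
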